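import Groth.Agent.EtLimit.Nbhd
import Groth.Agent.IndAlg.Etale
import Mathlib.AlgebraicGeometry.Stalk

/-!
Local rings through an affine chart.
-/

set_option autoImplicit false
set_option linter.style.haveILetI false
set_option backward.isDefEq.respectTransparency.types false

universe u

open CategoryTheory CategoryTheory.Limits AlgebraicGeometry

namespace Groth.Agent.ZeroAcyc

variable {A : CommRingCat.{u}} {Z : Scheme.{u}} (j : Spec A ⟶ Z) [IsOpenImmersion j]

theorem range_fromSpecStalk_subset (z : Z) (hz : z ∈ Set.range j) :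
    Set.range (Z.fromSpecStalk z) ⊆ Set.range j := by
  rw [Scheme.range_fromSpecStalk]
  exact fun y hy => hy.mem_open j.opensRange.isOpen hz

/-- The map from the ring of an affine chart to a local ring in it. -/
noncomputable def chartToStalk (z : Z) (hz : z ∈ Set.range j) : A ⟶ Z.presheaf.stalk z :=
  Spec.preimage (IsOpenImmersion.lift j (Z.fromSpecStalk z) (range_fromSpecStalk_subset j z hz))

theorem map_chartToStalk (z : Z) (hz : z ∈ Set.range j) :
    Spec.map (chartToStalk j z hz) ≫ j = Z.fromSpecStalk z := by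
  rw [chartToStalk, Spec.map_preimage, IsOpenImmersion.lift_fac]

/-- The local rings in an affine chart are localisations. -/
theorem exists_isLocalization_chartToStalk (z : Z) (hz : z ∈ Set.range j) :
    letI := (chartToStalk j z hz).hom.toAlgebra
    ∃ (p : Ideal A) (_ : p.IsPrime), IsLocalization.AtPrime (Z.presheaf.stalk z) p := by
  obtain ⟨q, rfl⟩ := hz
  haveI hiso : IsIso (j.stalkMap q) := inferInstance
  let is : (Spec A).presheaf.stalk q ⟶ Z.presheaf.stalk (j q) := inv (j.stalkMap q)
  have key : chartToStalk j (j q) ⟨q, rfl⟩ = StructureSheaf.toStalk A q ≫ is := by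
    refine Spec.map_injective ((cancel_mono j).1 ?_)
    rw [map_chartToStalk, Spec.map_comp, Category.assoc]
    have h1 := Scheme.SpecMap_stalkMap_fromSpecStalk j (x := q)
    rw [Spec.fromSpecStalk_eq'] at h1
    have h2 : Spec.map (inv (j.stalkMap q)) ≫ Spec.map (j.stalkMap q) = 𝟙 _ := by
      rw [← Spec.map_comp, IsIso.hom_inv_id, Spec.map_id]
    calc Z.fromSpecStalk (j q)
        = (Spec.map (inv (j.stalkMap q)) ≫ Spec.map (j.stalkMap q)) ≫ Z.fromSpecStalk (j q) := by
          rw [h2, Category.id_comp]
      _ = _ := by rw [Category.assoc, h1]; rfl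
  letI := (chartToStalk j (j q) ⟨q, rfl⟩).hom.toAlgebra
  let e : (Spec A).presheaf.stalk q ≅ Z.presheaf.stalk (j q) := (asIso (j.stalkMap q)).symm
  let e' : ((Spec.structureSheaf A).presheaf.stalk q) ≃ₐ[A] Z.presheaf.stalk (j q) :=
    AlgEquiv.ofRingEquiv (f := e.commRingCatIsoToRingEquiv) fun a =>
      (congrArg (fun m : A ⟶ Z.presheaf.stalk (j q) => m.hom a) key).symm
  exact ⟨q.asIdeal, inferInstance, IsLocalization.isLocalization_of_algEquiv q.asIdeal.primeCompl e'⟩

/-- Strict henselisations of local rings in an affine chart are ind-étale over its ring. -/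
theorem fac_et_chart (z : Z) (hz : z ∈ Set.range j) (R : Type u) [CommRing R] [IsLocalRing R]
    [Algebra (Z.presheaf.stalk z) R] [IsLocalHom (algebraMap (Z.presheaf.stalk z) R)]
    [Hensel.IsStrictHenselization (Z.presheaf.stalk z) R] [Algebra A R]
    (h : ∀ a : A, algebraMap A R a = algebraMap (Z.presheaf.stalk z) R (chartToStalk j z hz a)) :
    IndAlg.Fac (IndAlg.Etale.Et A) R := by
  letI := (chartToStalk j z hz).hom.toAlgebra
  obtain ⟨p, _, _⟩ := exists_isLocalization_chartToStalk j z hz
  haveI : IsScalarTower A (Z.presheaf.stalk z) R := .of_algebraMap_eq h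
  exact EtLimit.fac_et_strictHenselization (L := Z.presheaf.stalk z) p

end Groth.Agent.ZeroAcyc
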