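import Groth.Agent.ZeroAcyc.Unit
import Groth.Agent.AlgSp.GorCore
import Groth.Agent.IndAlg.Etale
import Mathlib.AlgebraicGeometry.Morphisms.FlatDescent

/-!
Universal submersiveness of maps of strictly local schemes over a base with one point.
-/

set_option autoImplicit false
set_option linter.style.haveILetI false
set_option backward.isDefEq.respectTransparency.types false

universe u

open CategoryTheory CategoryTheory.Limits AlgebraicGeometry
open scoped TensorProduct

namespace Groth.Agent.ZeroAcyc

/-- Faithfully flat quasi-compact morphisms are universally submersive. -/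
theorem isUnivSubmersive_of_flat {A B : Scheme.{u}} (f : A ⟶ B) [Flat f] [QuasiCompact f] [Surjective f] :
    EtDesc.IsUnivSubmersive f := fun Y g => by
  haveI : Flat (pullback.snd f g) := MorphismProperty.pullback_snd _ _ ‹Flat f›
  haveI : QuasiCompact (pullback.snd f g) := MorphismProperty.pullback_snd _ _ ‹QuasiCompact f›
  haveI : Surjective (pullback.snd f g) := MorphismProperty.pullback_snd _ _ ‹Surjective f›
  exact ⟨(pullback.snd f g).surjective, Flat.isQuotientMap_of_surjective _⟩

/-- The second map of a universally submersive composite is universally submersive. -/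
theorem isUnivSubmersive_of_comp {A B C : Scheme.{u}} (p : A ⟶ B) (q : B ⟶ C)
    (h : EtDesc.IsUnivSubmersive (p ≫ q)) : EtDesc.IsUnivSubmersive q := fun Y y => by
  let m : pullback (p ≫ q) y ⟶ pullback q y :=
    pullback.lift (pullback.fst _ _ ≫ p) (pullback.snd _ _) (by rw [Category.assoc, pullback.condition])
  have hm : m ≫ pullback.snd q y = pullback.snd (p ≫ q) y := pullback.lift_snd _ _ _
  obtain ⟨hs, hq⟩ := h Y y
  rw [← hm] at hs hq
  exact ⟨Function.Surjective.of_comp (g := (m.base : _ → _)) hs,
    Topology.IsQuotientMap.of_comp m.continuous (pullback.snd q y).continuous hq⟩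

instance : MorphismProperty.HasOfPostcompProperty @Flat.{u} @WeaklyEtale.{u} := by
  rw [MorphismProperty.hasOfPostcompProperty_iff_le_diagonal]
  intro X Y f hf
  exact WeaklyEtale.flat_diagonal (f := f) (self := hf)

/-- Flatness after reduction of the base. -/
theorem flat_pullback_snd_of_thickening {X Y B R C O' k : Scheme.{u}} {f : B ⟶ R} {pC : B ⟶ C} {rO : R ⟶ O'}
    {a : C ⟶ O'} (hP : IsPullback pC f a rO) (s : k ⟶ O') [Flat (pullback.snd a s)] (g : X ⟶ B) [Flat g]
    (r : Y ⟶ R) [WeaklyEtale r] (c : X ⟶ Y) (w : c ≫ r = g ≫ f) :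
    Flat (pullback.snd c (pullback.fst (r ≫ rO) s)) := by
  let j : pullback (r ≫ rO) s ⟶ pullback rO s :=
    pullback.lift (pullback.fst _ _ ≫ r) (pullback.snd _ _) ((Category.assoc _ _ _).trans pullback.condition)
  have hj : IsPullback (pullback.fst (r ≫ rO) s) j r (pullback.fst rO s) :=
    IsPullback.of_bot (by rw [pullback.lift_snd]; exact IsPullback.of_hasPullback (r ≫ rO) s)
      (pullback.lift_fst _ _ _).symm (IsPullback.of_hasPullback rO s)
  haveI : WeaklyEtale j := MorphismProperty.of_isPullback hj ‹WeaklyEtale r›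
  have hT := (IsPullback.of_hasPullback c (pullback.fst (r ≫ rO) s)).paste_vert hj
  rw [w] at hT
  let P := pullback f (pullback.fst rO s)
  have h1 : IsPullback (pullback.fst f (pullback.fst rO s) ≫ pC) (pullback.snd f (pullback.fst rO s)) a
      (pullback.fst rO s ≫ rO) := (IsPullback.of_hasPullback f (pullback.fst rO s)).paste_horiz hP
  rw [pullback.condition] at h1
  let m : P ⟶ pullback a s := pullback.lift (pullback.fst f (pullback.fst rO s) ≫ pC)
    (pullback.snd f (pullback.fst rO s) ≫ pullback.snd rO s) (h1.w.trans (Category.assoc _ _ _).symm)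
  have h2 : IsPullback m (pullback.snd f (pullback.fst rO s)) (pullback.snd a s) (pullback.snd rO s) :=
    IsPullback.of_right (by rw [pullback.lift_fst]; exact h1) (pullback.lift_snd _ _ _)
      (IsPullback.of_hasPullback a s)
  haveI : Flat (pullback.snd f (pullback.fst rO s)) := MorphismProperty.of_isPullback h2 ‹Flat (pullback.snd a s)›
  let n : pullback c (pullback.fst (r ≫ rO) s) ⟶ P := pullback.lift (pullback.fst _ _ ≫ g)
    (pullback.snd _ _ ≫ j) ((Category.assoc _ _ _).trans hT.w)
  have h3 : IsPullback (pullback.fst c (pullback.fst (r ≫ rO) s)) n g (pullback.fst f (pullback.fst rO s)) :=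
    IsPullback.of_bot (by rw [pullback.lift_snd]; exact hT) (pullback.lift_fst _ _ _).symm
      (IsPullback.of_hasPullback f (pullback.fst rO s))
  haveI : Flat n := MorphismProperty.of_isPullback h3 ‹Flat g›
  haveI : Flat (pullback.snd c (pullback.fst (r ≫ rO) s) ≫ j) := by
    rw [show pullback.snd c (pullback.fst (r ≫ rO) s) ≫ j = n ≫ pullback.snd f (pullback.fst rO s) from
      (pullback.lift_snd _ _ _).symm]
    infer_instance
  exact MorphismProperty.of_postcomp (W := @Flat) (W' := @WeaklyEtale) _ j ‹WeaklyEtale j› ‹_›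

set_option maxHeartbeats 1000000 in
/-- Maps of strictly local rings over a base with one prime are universally submersive. -/
theorem isUnivSubmersive_discrete {O C R₀ RY RX : Type u} [CommRing O] [IsLocalRing O]
    [Subsingleton (PrimeSpectrum O)] [CommRing C] [Algebra O C] [CommRing R₀] [Algebra O R₀]
    [CommRing RY] [CommRing RX] [IsLocalRing RY] [IsLocalRing RX]
    [Algebra R₀ RY] [Algebra (C ⊗[O] R₀) RX] [Algebra RY RX] [IsLocalHom (algebraMap RY RX)]
    (hcompat : ∀ r : R₀, algebraMap (C ⊗[O] R₀) RX (1 ⊗ₜ r) = algebraMap RY RX (algebraMap R₀ RY r))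
    (hRY : IndAlg.Fac (IndAlg.Etale.Et R₀) RY) (hRX : IndAlg.Fac (IndAlg.Etale.Et (C ⊗[O] R₀)) RX) :
    EtDesc.IsUnivSubmersive (Spec.map (CommRingCat.ofHom (algebraMap RY RX))) := by
  let s : Spec (CommRingCat.of (IsLocalRing.ResidueField O)) ⟶ Spec (CommRingCat.of O) :=
    Spec.map (CommRingCat.ofHom (IsLocalRing.residue O))
  haveI : IsClosedImmersion s :=
    IsClosedImmersion.spec_of_surjective (CommRingCat.ofHom (IsLocalRing.residue O)) IsLocalRing.residue_surjective
  haveI : Surjective s := ⟨fun y => ⟨IsLocalRing.closedPoint _,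
    (Subsingleton.elim (α := PrimeSpectrum O) _ _)⟩⟩
  let a : Spec (CommRingCat.of C) ⟶ Spec (CommRingCat.of O) := Spec.map (CommRingCat.ofHom (algebraMap O C))
  haveI : Flat (pullback.snd a s) := inferInstance
  let rO : Spec (CommRingCat.of R₀) ⟶ Spec (CommRingCat.of O) := Spec.map (CommRingCat.ofHom (algebraMap O R₀))
  let f : Spec (CommRingCat.of (C ⊗[O] R₀)) ⟶ Spec (CommRingCat.of R₀) :=
    Spec.map (CommRingCat.ofHom (Algebra.TensorProduct.includeRight : R₀ →ₐ[O] C ⊗[O] R₀).toRingHom)
  let pC : Spec (CommRingCat.of (C ⊗[O] R₀)) ⟶ Spec (CommRingCat.of C) :=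
    Spec.map (CommRingCat.ofHom (Algebra.TensorProduct.includeLeftRingHom : C →+* C ⊗[O] R₀))
  have hP : IsPullback pC f a rO := isPullback_SpecMap_of_isPushout _ _ _ _
    (CommRingCat.isPushout_tensorProduct O C R₀)
  let g : Spec (CommRingCat.of RX) ⟶ Spec (CommRingCat.of (C ⊗[O] R₀)) :=
    Spec.map (CommRingCat.ofHom (algebraMap (C ⊗[O] R₀) RX))
  haveI : Flat g := (HasRingHomProperty.Spec_iff (P := @Flat)).2
    (RingHom.flat_algebraMap_iff.2 (IndAlg.Etale.flat hRX))
  let r : Spec (CommRingCat.of RY) ⟶ Spec (CommRingCat.of R₀) := Spec.map (CommRingCat.ofHom (algebraMap R₀ RY))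
  haveI : WeaklyEtale r := (Groth.Agent.ProEtS.Affine.weaklyEtale_SpecMap_iff R₀ RY).2
    (IndAlg.Etale.weaklyEtale hRY)
  let c : Spec (CommRingCat.of RX) ⟶ Spec (CommRingCat.of RY) := Spec.map (CommRingCat.ofHom (algebraMap RY RX))
  have w : c ≫ r = g ≫ f := by
    simp only [c, r, g, f, ← Spec.map_comp]
    congr 1
    exact CommRingCat.hom_ext (RingHom.ext fun x => (hcompat x).symm)
  haveI := flat_pullback_snd_of_thickening hP s g r c w
  let i := pullback.fst (r ≫ rO) s
  let c' := pullback.snd c i
  let e := pullback.fst c i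
  haveI : IsClosedImmersion i := MorphismProperty.pullback_fst _ _ ‹IsClosedImmersion s›
  haveI : Surjective i := MorphismProperty.pullback_fst _ _ ‹Surjective s›
  haveI : Surjective e := MorphismProperty.pullback_fst _ _ ‹Surjective i›
  haveI : Flat c' := ‹_›
  haveI : Surjective c' := ⟨fun t => by
    obtain ⟨x, hx⟩ := e.surjective (IsLocalRing.closedPoint RX)
    have hcx : i (c' x) = IsLocalRing.closedPoint RY := by
      rw [← Scheme.Hom.comp_apply, ← pullback.condition, Scheme.Hom.comp_apply]
      show c (e x) = _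
      rw [hx]
      exact IsLocalRing.comap_closedPoint (algebraMap RY RX)
    have hsp : t ⤳ c' x := by
      refine i.isClosedEmbedding.isInducing.specializes_iff.1 ?_
      rw [hcx]
      exact IsLocalRing.specializes_closedPoint (i t)
    obtain ⟨x', -, hx'⟩ := Flat.generalizingMap c' hsp
    exact ⟨x', hx'⟩⟩
  haveI : QuasiCompact c' := MorphismProperty.pullback_snd _ _ (inferInstanceAs (QuasiCompact c))
  haveI : UniversallyClosed i := inferInstance
  refine isUnivSubmersive_of_comp e c ?_
  rw [show e ≫ c = c' ≫ i from pullback.condition]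
  intro Y y
  obtain ⟨h1, h2⟩ := DescSh.isUnivSubmersive_of_universallyClosed i Y y
  obtain ⟨h3, h4⟩ := isUnivSubmersive_of_flat c' _ (pullback.fst i y)
  have hp : IsPullback (pullback.fst c' (pullback.fst i y)) (pullback.snd c' (pullback.fst i y) ≫ pullback.snd i y)
      (c' ≫ i) y :=
    (IsPullback.of_hasPullback c' (pullback.fst i y)).paste_vert (IsPullback.of_hasPullback i y)
  rw [← hp.isoPullback_inv_snd]
  exact ⟨(h1.comp h3).comp hp.isoPullback.inv.surjective,
    (h2.comp h4).comp hp.isoPullback.inv.homeomorph.isQuotientMap⟩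

end Groth.Agent.ZeroAcyc
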