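import Groth.Agent.ZeroAcyc.Discrete
import Groth.Agent.ZeroAcyc.Submersive

/-!
Maps of strictly local schemes over a base with one point are 0-acyclic.
-/

set_option autoImplicit false
set_option linter.style.haveILetI false
set_option backward.isDefEq.respectTransparency.types false

universe u

open CategoryTheory CategoryTheory.Limits AlgebraicGeometry
open scoped TensorProduct

namespace Groth.Agent.ZeroAcyc

/-- Affine criterion for geometric connectedness. -/
theorem geometricallyConnected_of_idem {A B : Type u} [CommRing A] [CommRing B] [Algebra A B]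
    [Surjective (Spec.map (CommRingCat.ofHom (algebraMap A B)))]
    (h : ∀ (K : Type u) [Field K] [Algebra A K] (e : B ⊗[A] K), IsIdempotentElem e → e = 0 ∨ e = 1) :
    GeometricallyConnected (Spec.map (CommRingCat.ofHom (algebraMap A B))) := by
  rw [GeometricallyConnected.eq_geometrically, geometrically_iff_of_commRing]
  intro K _ _ Z fst snd hsq
  let i : Z ≅ Spec (CommRingCat.of (B ⊗[A] K)) := hsq.isoPullback ≪≫ pullbackSpecIso A B K
  haveI : Surjective snd := MorphismProperty.of_isPullback hsq ‹_›
  haveI : Nontrivial (B ⊗[A] K) := by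
    obtain ⟨z, -⟩ := snd.surjective (IsLocalRing.closedPoint K)
    exact PrimeSpectrum.nonempty_iff_nontrivial.1 ⟨i.hom z⟩
  haveI := connectedSpace_of_idem (h K)
  exact i.inv.homeomorph.connectedSpace_iff.1 (inferInstanceAs (ConnectedSpace (PrimeSpectrum (B ⊗[A] K))))

/-- Over a base with one prime, maps of strictly henselian local rings of base changes are 0-acyclic. -/
theorem isZeroAcyclic_discrete {O C R₀ RY RX : Type u} [CommRing O] [IsLocalRing O]
    [Subsingleton (PrimeSpectrum O)] [CommRing C] [Algebra O C] [CommRing R₀] [Algebra O R₀]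
    [CommRing RY] [CommRing RX] [HenselianLocalRing RY] [HenselianLocalRing RX]
    [IsSepClosed (IsLocalRing.ResidueField RY)] [IsSepClosed (IsLocalRing.ResidueField RX)]
    [Algebra R₀ RY] [Algebra (C ⊗[O] R₀) RX] [Algebra RY RX] [IsLocalHom (algebraMap RY RX)]
    (hcompat : ∀ r : R₀, algebraMap (C ⊗[O] R₀) RX (1 ⊗ₜ r) = algebraMap RY RX (algebraMap R₀ RY r))
    (hRY : IndAlg.Fac (IndAlg.Etale.Et R₀) RY) (hRX : IndAlg.Fac (IndAlg.Etale.Et (C ⊗[O] R₀)) RX) :
    EtAcyc.IsZeroAcyclic (Spec.map (CommRingCat.ofHom (algebraMap RY RX))) := by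
  have hc := isUnivSubmersive_discrete hcompat hRY hRX
  haveI : Surjective (Spec.map (CommRingCat.ofHom (algebraMap RY RX))) := ⟨fun b => by
    obtain ⟨z, hz⟩ := (hc _ (𝟙 _)).1 b
    refine ⟨pullback.fst _ (𝟙 (Spec (CommRingCat.of RY))) z, ?_⟩
    rw [← Scheme.Hom.comp_apply, pullback.condition, Category.comp_id]
    exact hz⟩
  haveI := geometricallyConnected_of_idem (A := RY) (B := RX)
    fun K _ _ e he => idem_trivial_discrete hcompat hRY hRX e he
  exact isZeroAcyclic _ hc

end Groth.Agent.ZeroAcyc
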