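import Groth.Agent.ZeroAcyc.Geom

/-!
Ind-(flat, finitely presented, geometrically reduced) algebras are stable under ind-étale algebras.
-/

set_option autoImplicit false
set_option linter.style.haveILetI false
set_option backward.isDefEq.respectTransparency.types false

universe u

open CategoryTheory CategoryTheory.Limits AlgebraicGeometry
open scoped TensorProduct
open Groth.Agent.IndAlg

namespace Groth.Agent.ZeroAcyc

variable {A : Type u} [CommRing A]

theorem fac_baseChange_gen {B A' : Type u} [CommRing B] [CommRing A'] [Algebra A B] [Algebra A A']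
    {Q : ∀ (E : Type u) [CommRing E] [Algebra A E], Prop}
    {Q' : ∀ (E : Type u) [CommRing E] [Algebra A' E], Prop}
    (hfp : ∀ (E : Type u) [CommRing E] [Algebra A E], Q E → Algebra.FinitePresentation A E)
    (hiso : ∀ (E E' : Type u) [CommRing E] [Algebra A E] [CommRing E'] [Algebra A E'],
      (E ≃ₐ[A] E') → Q E → Q E')
    (hbc : ∀ (E : Type u) [CommRing E] [Algebra A E], Q E → Q' (A' ⊗[A] E))
    (h : Fac Q B) : Fac Q' (A' ⊗[A] B) := by
  obtain ⟨J, _, _, D, c, hc, hQ, ⟨e⟩⟩ := Groth.Agent.IndAlg.isInd_of_fac hfp hiso h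
  let F := CommRingCat.tensorProd (CommRingCat.of A) (CommRingCat.of A')
  have : (Under.pushout (CommRingCat.ofHom (algebraMap A A'))).IsLeftAdjoint :=
    (Under.mapPushoutAdj (CommRingCat.ofHom (algebraMap A A'))).isLeftAdjoint
  have : PreservesColimitsOfShape J F :=
    preservesColimitsOfShape_of_natIso
      (CommRingCat.tensorProdIsoPushout (CommRingCat.of A) (CommRingCat.of A')).symm
  refine fac_of_isInd ⟨J, inferInstance, inferInstance, D ⋙ F, F.mapCocone c, isColimitOfPreserves F hc,
    fun j => ?_, ⟨F.mapIso e ≪≫ ?_⟩⟩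
  · let a : Algebra A (D.obj j).right := (D.obj j).hom.hom.toAlgebra
    have hAlg : ((D ⋙ F).obj j).hom.hom.toAlgebra =
        (Algebra.TensorProduct.leftAlgebra : Algebra A' (A' ⊗[A] (D.obj j).right)) :=
      Algebra.algebra_ext _ _ fun x => rfl
    show @Q' (A' ⊗[A] (D.obj j).right) _ ((D ⋙ F).obj j).hom.hom.toAlgebra
    rw [hAlg]
    exact hbc _ (hQ j)
  · let X := Under.mk (CommRingCat.ofHom (algebraMap A B))
    let : Algebra A X.right := CommRingCat.instAlgebraCarrierRight X
    let eB : X.right ≃ₐ[A] B := AlgEquiv.ofRingEquiv (f := RingEquiv.refl B) fun a => rfl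
    exact (Algebra.TensorProduct.congr (AlgEquiv.refl : A' ≃ₐ[A'] A') eB).toUnder

theorem good_of_algEquiv {E E' : Type u} [CommRing E] [Algebra A E] [CommRing E'] [Algebra A E']
    (e : E ≃ₐ[A] E') (h : Good A E) : Good A E' := by
  obtain ⟨h1, h2, h3⟩ := h
  haveI := h1
  haveI := h2
  refine ⟨Algebra.FinitePresentation.equiv e, Module.Flat.of_linearEquiv e.toLinearEquiv.symm, ?_⟩
  have hh : Spec.map (CommRingCat.ofHom (algebraMap A E')) =
      Spec.map (CommRingCat.ofHom e.toAlgHom.toRingHom) ≫ Spec.map (CommRingCat.ofHom (algebraMap A E)) := by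
    rw [← Spec.map_comp]
    congr 1
    ext x
    exact (e.commutes x).symm
  haveI : IsIso (Spec.map (CommRingCat.ofHom e.toAlgHom.toRingHom)) :=
    inferInstanceAs (IsIso (Spec.map e.toRingEquiv.toCommRingCatIso.hom))
  haveI := h3
  rw [hh]
  exact geometricallyReduced_etale_comp _ _

theorem good_etale_comp {B E : Type u} [CommRing B] [CommRing E] [Algebra A B] [Algebra B E] [Algebra A E]
    [IsScalarTower A B E] [Algebra.Etale B E] (h : Good A B) : Good A E := by
  obtain ⟨h1, h2, h3⟩ := h
  haveI := h1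
  haveI := h2
  refine ⟨Algebra.FinitePresentation.trans A B E, Module.Flat.trans A B E, ?_⟩
  have hh : Spec.map (CommRingCat.ofHom (algebraMap A E)) =
      Spec.map (CommRingCat.ofHom (algebraMap B E)) ≫ Spec.map (CommRingCat.ofHom (algebraMap A B)) := by
    rw [← Spec.map_comp, ← CommRingCat.ofHom_comp, ← IsScalarTower.algebraMap_eq]
  haveI : Etale (Spec.map (CommRingCat.ofHom (algebraMap B E))) :=
    (HasRingHomProperty.Spec_iff (P := @Etale)).2 (RingHom.etale_algebraMap.2 inferInstance)
  haveI := h3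
  rw [hh]
  exact geometricallyReduced_etale_comp _ _

/-- Good over `A` through a fixed stage. -/
def GoodVia (A : Type u) [CommRing A] (B₁ : Type u) [CommRing B₁] [Algebra A B₁] :
    ∀ (E : Type u) [CommRing E] [Algebra B₁ E], Prop :=
  fun E _ _ =>
    letI : Algebra A E := ((algebraMap B₁ E).comp (algebraMap A B₁)).toAlgebra
    Good A E

/-- An étale algebra over an ind-good algebra is ind-good. -/
theorem fac_good_etale_top {B E : Type u} [CommRing B] [CommRing E] [Algebra A B] [Algebra B E] [Algebra A E]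
    [IsScalarTower A B E] [Algebra.Etale B E] (h : Fac (Good A) B) : Fac (Good A) E := by
  obtain ⟨B0, E0, _, _, hfg, hE0, ⟨e⟩⟩ := Algebra.Etale.exists_subalgebra_fg (R := ℤ) (A := B) (B := E)
  have : Algebra.FiniteType ℤ B0 := (Subalgebra.fg_iff_finiteType B0).1 hfg
  have : Algebra.FinitePresentation ℤ B0 := Algebra.FinitePresentation.of_finiteType.1 ‹_›
  obtain ⟨B1, _, _, hB1, v, w, hw⟩ := h (A ⊗[ℤ] B0) inferInstance
    (Algebra.TensorProduct.lift (Algebra.ofId A B) B0.val (fun _ _ => Commute.all _ _))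
  have : Algebra.FinitePresentation A B1 := hB1.1
  let : Algebra B0 B1 :=
    (v.toRingHom.comp (Algebra.TensorProduct.includeRight (R := ℤ) (A := A) (B := B0)).toRingHom).toAlgebra
  let : Algebra B1 B := w.toRingHom.toAlgebra
  have : IsScalarTower A B1 B := .of_algebraMap_eq fun a => (w.commutes a).symm
  have : IsScalarTower B0 B1 B := .of_algebraMap_eq fun b => by
    show (b : B) = w (v ((1 : A) ⊗ₜ[ℤ] b))
    rw [show w (v ((1 : A) ⊗ₜ[ℤ] b)) = _ from congr($hw ((1 : A) ⊗ₜ[ℤ] b))]
    simp
  let E1 := B1 ⊗[B0] E0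
  let e1 : B ⊗[B1] E1 ≃ₐ[B] E :=
    (Algebra.TensorProduct.cancelBaseChange B0 B1 B B E0).trans e.symm
  let : Algebra B1 E := ((algebraMap B E).comp (algebraMap B1 B)).toAlgebra
  have : IsScalarTower B1 B E := .of_algebraMap_eq fun x => rfl
  let : Algebra E1 E :=
    ((e1.toAlgHom.restrictScalars B1).comp Algebra.TensorProduct.includeRight).toRingHom.toAlgebra
  have : IsScalarTower A E1 E := .of_algebraMap_eq fun a => by
    show algebraMap A E a = e1 ((1 : B) ⊗ₜ[B1] algebraMap A E1 a)
    rw [IsScalarTower.algebraMap_apply A B1 E1, ← Algebra.TensorProduct.tmul_one_eq_one_tmul,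
      ← IsScalarTower.algebraMap_apply A B1 B, ← Algebra.algebraMap_self_apply (algebraMap A B a),
      ← Algebra.TensorProduct.algebraMap_apply, e1.commutes, ← IsScalarTower.algebraMap_apply]
  have hB' : Fac (GoodVia A B1) B := by
    intro Z _ _ hZ g
    letI : Algebra A Z := ((algebraMap B1 Z).comp (algebraMap A B1)).toAlgebra
    haveI : IsScalarTower A B1 Z := .of_algebraMap_eq fun _ => rfl
    haveI := hZ
    haveI : Algebra.FinitePresentation A Z := Algebra.FinitePresentation.trans A B1 Z
    obtain ⟨F, _, _, hF, vF, wF, hwF⟩ := h Z inferInstance (g.restrictScalars A)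
    letI : Algebra B1 F := (vF.toRingHom.comp (algebraMap B1 Z)).toAlgebra
    have hc : ∀ x, wF (algebraMap B1 F x) = algebraMap B1 B x := fun x => by
      show wF (vF (algebraMap B1 Z x)) = _
      rw [← AlgHom.comp_apply, hwF]
      exact g.commutes x
    refine ⟨F, inferInstance, inferInstance, ?_, { vF.toRingHom with commutes' := fun _ => rfl },
      { wF.toRingHom with commutes' := hc }, AlgHom.ext fun z => congr($hwF z)⟩
    show GoodVia A B1 F
    unfold GoodVia
    convert hF using 1
    exact Algebra.algebra_ext _ _ fun x => vF.commutes x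
  have hE' : Fac (GoodVia A E1) (E1 ⊗[B1] B) := by
    refine fac_baseChange_gen (Q := GoodVia A B1) (fun G _ _ hG => ?_) (fun G G' _ _ _ _ eG hG => ?_)
      (fun G _ _ hG => ?_) hB'
    · letI : Algebra A G := ((algebraMap B1 G).comp (algebraMap A B1)).toAlgebra
      haveI : IsScalarTower A B1 G := .of_algebraMap_eq fun _ => rfl
      haveI : Algebra.FinitePresentation A G := hG.1
      exact Algebra.FinitePresentation.of_restrict_scalars_finitePresentation A B1 G
    · letI : Algebra A G := ((algebraMap B1 G).comp (algebraMap A B1)).toAlgebra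
      letI : Algebra A G' := ((algebraMap B1 G').comp (algebraMap A B1)).toAlgebra
      exact good_of_algEquiv (AlgEquiv.ofRingEquiv (f := eG.toRingEquiv) fun x => eG.commutes _) hG
    · letI : Algebra A G := ((algebraMap B1 G).comp (algebraMap A B1)).toAlgebra
      letI : Algebra G (E1 ⊗[B1] G) := Algebra.TensorProduct.rightAlgebra
      haveI : IsScalarTower A G (E1 ⊗[B1] G) := .of_algebraMap_eq fun a => by
        show algebraMap A E1 a ⊗ₜ[B1] (1 : G) = (1 : E1) ⊗ₜ[B1] algebraMap B1 G (algebraMap A B1 a)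
        rw [IsScalarTower.algebraMap_apply A B1 E1, Algebra.TensorProduct.tmul_one_eq_one_tmul]
      haveI : Algebra.Etale G (G ⊗[B1] E1) := inferInstance
      haveI : Algebra.Etale G (E1 ⊗[B1] G) := Algebra.Etale.of_equiv
        (AlgEquiv.ofRingEquiv (f := (Algebra.TensorProduct.comm B1 G E1).toRingEquiv) fun x => rfl)
      have key : Good A (E1 ⊗[B1] G) := good_etale_comp hG
      unfold GoodVia
      convert key using 1
      exact Algebra.algebra_ext _ _ fun a => (IsScalarTower.algebraMap_apply A E1 (E1 ⊗[B1] G) a).symm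
  let e2 : E1 ⊗[B1] B ≃ₐ[E1] E := AlgEquiv.ofRingEquiv
    (f := (Algebra.TensorProduct.comm B1 E1 B).toRingEquiv.trans e1.toRingEquiv) fun x => rfl
  have hE'' : Fac (GoodVia A E1) E := fac_algEquiv e2 hE'
  intro Z _ _ hZ g
  haveI : Algebra.FinitePresentation A Z := hZ
  obtain ⟨F, _, _, hF, vF, wF, hwF⟩ := hE'' (E1 ⊗[A] Z) inferInstance
    (Algebra.TensorProduct.lift (Algebra.ofId E1 E) g (fun _ _ => Commute.all _ _))
  letI : Algebra A F := ((algebraMap E1 F).comp (algebraMap A E1)).toAlgebra
  haveI : IsScalarTower A E1 F := .of_algebraMap_eq fun _ => rfl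
  refine ⟨F, inferInstance, inferInstance, hF,
    (vF.restrictScalars A).comp Algebra.TensorProduct.includeRight, wF.restrictScalars A, ?_⟩
  ext z
  simpa using congr($hwF ((1 : E1) ⊗ₜ[A] z))

/-- Ind-étale algebras over ind-good algebras are ind-good. -/
theorem fac_good_trans {B C : Type u} [CommRing B] [CommRing C] [Algebra A B]
    [Algebra B C] [Algebra A C] [IsScalarTower A B C] (hB : Fac (Good A) B) (hC : Fac (IndAlg.Etale.Et B) C) :
    Fac (Good A) C := by
  intro Z _ _ hZ g
  have : Algebra.FinitePresentation A Z := hZ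
  obtain ⟨E, _, _, hE, v, w, hw⟩ := hC (B ⊗[A] Z) inferInstance
    (Algebra.TensorProduct.lift (Algebra.ofId B C) g (fun _ _ => Commute.all _ _))
  have : Algebra.Etale B E := hE
  let : Algebra A E := ((algebraMap B E).comp (algebraMap A B)).toAlgebra
  have : IsScalarTower A B E := .of_algebraMap_eq fun a => rfl
  obtain ⟨F, _, _, hF, v', w', hw'⟩ := fac_good_etale_top (E := E) hB Z hZ
    ((v.restrictScalars A).comp Algebra.TensorProduct.includeRight)
  refine ⟨F, inferInstance, inferInstance, hF, v', (w.restrictScalars A).comp w', ?_⟩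
  rw [AlgHom.comp_assoc, hw']
  ext z
  simpa using congr($hw ((1 : B) ⊗ₜ[A] z))

end Groth.Agent.ZeroAcyc
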