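import Groth.Agent.ZeroAcyc.Noeth
import Groth.Agent.ZeroAcyc.FacGood
import Groth.Agent.ZeroAcyc.DiscreteMain
import Groth.Agent.FEtCat.Full
import Groth.Agent.S2501

/-!
Maps of strictly henselian local rings, flat with reduced geometric fibres, are 0-acyclic.
-/

set_option autoImplicit false
set_option linter.style.haveILetI false
set_option backward.isDefEq.respectTransparency.types false

universe u

open CategoryTheory CategoryTheory.Limits AlgebraicGeometry
open scoped TensorProduct
open Groth.Agent.IndAlg

namespace Groth.Agent.ZeroAcyc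

/-- An algebraically closed field over a ring contains one with elements fractions of integral elements. -/
theorem exists_algebraic_subfield {A Ω : Type u} [CommRing A] [Field Ω] [IsAlgClosed Ω] (φ : A →+* Ω) :
    ∃ (F : Type u) (_ : Field F) (_ : IsAlgClosed F) (_ : Algebra A F) (ι : F →+* Ω),
      ι.comp (algebraMap A F) = φ ∧
      ∀ z : F, ∃ a b : F, IsIntegral A a ∧ IsIntegral A b ∧ b ≠ 0 ∧ z * b = a := by
  let R : Subring Ω := φ.range
  let k₀ := FractionRing R
  letI : Algebra k₀ Ω := (IsFractionRing.lift (g := R.subtype) Subtype.val_injective).toAlgebra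
  haveI : IsScalarTower R k₀ Ω := .of_algebraMap_eq fun x => (IsFractionRing.lift_algebraMap _ x).symm
  let F := algebraicClosure k₀ Ω
  letI : Algebra A F := ((algebraMap k₀ F).comp ((algebraMap R k₀).comp φ.rangeRestrict)).toAlgebra
  haveI : IsAlgClosed F := IsAlgClosure.isAlgClosed k₀
  refine ⟨F, inferInstance, inferInstance, inferInstance, (algebraMap F Ω), RingHom.ext fun x => ?_, fun z => ?_⟩
  · exact IsFractionRing.lift_algebraMap (g := R.subtype) Subtype.val_injective (φ.rangeRestrict x)
  · have hz : IsAlgebraic k₀ (z : Ω) := mem_algebraicClosure_iff.1 z.2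
    have hz' : IsAlgebraic R (z : Ω) := (IsFractionRing.isAlgebraic_iff R k₀ Ω).2 hz
    obtain ⟨r, hr, hint⟩ := hz'.exists_integral_multiple
    obtain ⟨x, hx⟩ := φ.rangeRestrict_surjective r
    refine ⟨z * algebraMap A F x, algebraMap A F x, ?_, isIntegral_algebraMap, fun h => hr ?_, rfl⟩
    · letI : Algebra A Ω := φ.toAlgebra
      letI : Algebra A R := φ.rangeRestrict.toAlgebra
      haveI : IsScalarTower A R Ω := .of_algebraMap_eq fun _ => rfl
      haveI : Algebra.IsIntegral A R := ⟨fun y => by
        obtain ⟨x', rfl⟩ := φ.rangeRestrict_surjective y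
        exact isIntegral_algebraMap⟩
      let ι : F →ₐ[A] Ω :=
        { algebraMap F Ω with commutes' := fun y => IsFractionRing.lift_algebraMap (g := R.subtype) Subtype.val_injective (φ.rangeRestrict y) }
      refine (isIntegral_algHom_iff ι (algebraMap F Ω).injective).1 ?_
      have h1 : ι (z * algebraMap A F x) = r • (z : Ω) := by
        rw [map_mul, AlgHom.commutes, ← hx, Algebra.smul_def, mul_comm]
        rfl
      rw [h1]
      exact isIntegral_trans _ hint
    · refine IsFractionRing.injective R k₀ ((algebraMap k₀ F).injective ?_)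
      rw [map_zero, map_zero, ← hx]
      exact h

/-- Affine criterion for geometric connectedness through algebraic geometric points. -/
theorem geometricallyConnected_of_idem_algebraic {A B : Type u} [CommRing A] [CommRing B] [Algebra A B]
    [Surjective (Spec.map (CommRingCat.ofHom (algebraMap A B)))]
    (h : ∀ (F : Type u) [Field F] [Algebra A F],
      (∀ z : F, ∃ a b : F, IsIntegral A a ∧ IsIntegral A b ∧ b ≠ 0 ∧ z * b = a) →
      ∀ e : B ⊗[A] F, IsIdempotentElem e → e = 0 ∨ e = 1) :
    GeometricallyConnected (Spec.map (CommRingCat.ofHom (algebraMap A B))) := by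
  let c := Spec.map (CommRingCat.ofHom (algebraMap A B))
  refine Groth.Agent.FEtCat.Full.geometricallyConnected_of_algClosed c fun Ω _ _ s => ?_
  obtain ⟨F, _, _, _, ι, hι, hfr⟩ := exists_algebraic_subfield (Spec.preimage s).hom
  let sF := Spec.map (CommRingCat.ofHom (algebraMap A F))
  let m : Spec (CommRingCat.of Ω) ⟶ Spec (CommRingCat.of F) := Spec.map (CommRingCat.ofHom ι)
  have hs : s = m ≫ sF := by
    rw [← Spec.map_preimage s, ← Spec.map_comp]
    exact congrArg Spec.map (CommRingCat.hom_ext hι.symm)
  haveI : ConnectedSpace ↥(pullback c sF) := by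
    haveI : Surjective (pullback.snd c sF) := MorphismProperty.pullback_snd _ _ ‹Surjective c›
    haveI : Nontrivial (B ⊗[A] F) := by
      obtain ⟨z, -⟩ := (pullback.snd c sF).surjective (IsLocalRing.closedPoint F)
      exact PrimeSpectrum.nonempty_iff_nontrivial.1 ⟨(pullbackSpecIso A B F).hom z⟩
    haveI := connectedSpace_of_idem (h F hfr)
    exact (pullbackSpecIso A B F).inv.homeomorph.connectedSpace_iff.1
      (inferInstanceAs (ConnectedSpace (PrimeSpectrum (B ⊗[A] F))))
  haveI := Groth.Agent.S2501.result (pullback.snd c sF)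
  have := GeometricallyConnected.geometrically_connectedSpace (f := pullback.snd c sF) m _ _
    (IsPullback.of_hasPullback (pullback.snd c sF) m)
  exact (pullbackLeftPullbackSndIso c sF m ≪≫ pullback.congrHom rfl hs.symm).hom.homeomorph.connectedSpace_iff.1 this

/-- Base change gives good stages. -/
theorem good_baseChange {A C : Type u} [CommRing A] [CommRing C] [Algebra A C] [Module.Flat A C]
    [Algebra.FinitePresentation A C]
    (hgr : GeometricallyReduced (Spec.map (CommRingCat.ofHom (algebraMap A C))))
    (R₀ : Type u) [CommRing R₀] [Algebra A R₀] :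
    letI : Algebra R₀ (C ⊗[A] R₀) := Algebra.TensorProduct.rightAlgebra
    Good R₀ (C ⊗[A] R₀) := by
  letI : Algebra R₀ (C ⊗[A] R₀) := Algebra.TensorProduct.rightAlgebra
  refine good_of_algEquiv (AlgEquiv.ofRingEquiv (f := (Algebra.TensorProduct.comm A R₀ C).toRingEquiv)
    fun x => rfl) ⟨inferInstance, inferInstance, ?_⟩
  haveI := hgr
  rw [show Spec.map (CommRingCat.ofHom (algebraMap R₀ (R₀ ⊗[A] C))) =
    (pullbackSpecIso A R₀ C).inv ≫ pullback.fst _ _ from (pullbackSpecIso_inv_fst' _ _ _).symm]
  exact geometricallyReduced_etale_comp _ _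

set_option maxHeartbeats 1000000 in
/-- Maps of strictly henselian local rings flat with reduced geometric fibres are 0-acyclic. -/
theorem isZeroAcyclic_flat {A C R₀ RY RX : Type u} [CommRing A] [CommRing C] [Algebra A C] [Module.Flat A C]
    (hgr : GeometricallyReduced (Spec.map (CommRingCat.ofHom (algebraMap A C))))
    (hA : IsNoetherianRing A ∨ Algebra.FinitePresentation A C)
    [CommRing R₀] [Algebra A R₀] [CommRing RY] [CommRing RX] [HenselianLocalRing RY] [HenselianLocalRing RX]
    [IsSepClosed (IsLocalRing.ResidueField RY)] [IsSepClosed (IsLocalRing.ResidueField RX)]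
    [Algebra R₀ RY] [Algebra (C ⊗[A] R₀) RX] [Algebra RY RX] [IsLocalHom (algebraMap RY RX)]
    (hcompat : ∀ r : R₀, algebraMap (C ⊗[A] R₀) RX (1 ⊗ₜ r) = algebraMap RY RX (algebraMap R₀ RY r))
    (hRY : Fac (IndAlg.Etale.Et R₀) RY) (hRX : Fac (IndAlg.Etale.Et (C ⊗[A] R₀)) RX) :
    EtAcyc.IsZeroAcyclic (Spec.map (CommRingCat.ofHom (algebraMap RY RX))) := by
  let c := Spec.map (CommRingCat.ofHom (algebraMap RY RX))
  letI : Algebra R₀ (C ⊗[A] R₀) := Algebra.TensorProduct.rightAlgebra
  letI : Algebra R₀ RX := ((algebraMap RY RX).comp (algebraMap R₀ RY)).toAlgebra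
  haveI : IsScalarTower R₀ RY RX := .of_algebraMap_eq fun _ => rfl
  haveI : IsScalarTower R₀ (C ⊗[A] R₀) RX := .of_algebraMap_eq fun r => (hcompat r).symm
  haveI : Flat c := by
    refine (HasRingHomProperty.Spec_iff (P := @Flat)).2 ?_
    haveI := IndAlg.Etale.weaklyEtale hRY
    refine Groth.Agent.AlgSp.GorCore.flat_of_weaklyEtale_comp (R := R₀) (algebraMap RY RX) ?_
    rw [← IsScalarTower.algebraMap_eq, RingHom.flat_algebraMap_iff]
    haveI : Module.Flat R₀ (C ⊗[A] R₀) := Module.Flat.of_linearEquiv
      (AlgEquiv.ofRingEquiv (A₁ := R₀ ⊗[A] C) (A₂ := C ⊗[A] R₀) (R := R₀)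
        (f := (Algebra.TensorProduct.comm A R₀ C).toRingEquiv) fun x => rfl).toLinearEquiv.symm
    haveI := IndAlg.Etale.flat hRX
    exact Module.Flat.trans R₀ (C ⊗[A] R₀) RX
  haveI : Surjective c := ⟨fun t => by
    have h1 : c (IsLocalRing.closedPoint RX) = IsLocalRing.closedPoint RY :=
      IsLocalRing.comap_closedPoint (algebraMap RY RX)
    obtain ⟨x, -, hx⟩ := Flat.generalizingMap c (h1 ▸ IsLocalRing.specializes_closedPoint t)
    exact ⟨x, hx⟩⟩
  haveI : GeometricallyConnected c := by
    refine geometricallyConnected_of_idem_algebraic fun F _ _ hfr e he => ?_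
    rcases hA with hA | hA
    · exact idem_trivial_noeth hgr hcompat hRY hRX hfr e he
    · exact idem_trivial hRY (fac_good_trans (fac_self (good_baseChange hgr R₀)) hRX) e he
  exact isZeroAcyclic c (isUnivSubmersive_of_flat c)

end Groth.Agent.ZeroAcyc
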