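import Groth.Agent.StrictHens.Basic
import Mathlib.Algebra.CharP.Lemmas
import Mathlib.Algebra.CharP.Algebra
import Mathlib.FieldTheory.PurelyInseparable.Basic
import Mathlib.RingTheory.Ideal.GoingUp

/-!
Radicial integral algebras over strictly henselian local rings.
-/

set_option autoImplicit false
set_option linter.style.haveILetI false

universe u

open IsLocalRing

namespace Groth.Agent.ZeroAcyc

/-- Elements some power of which lies in the image form a subring. -/
def powImage {A B : Type u} [CommRing A] [CommRing B] (f : A →+* B) (q : ℕ) [ExpChar B q] : Subring B where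
  carrier := {z | ∃ n : ℕ, z ^ q ^ n ∈ Set.range f}
  one_mem' := ⟨0, 1, by simp⟩
  zero_mem' := ⟨0, 0, by simp⟩
  mul_mem' := by
    rintro x y ⟨n, a, ha⟩ ⟨m, b, hb⟩
    refine ⟨n + m, a ^ q ^ m * b ^ q ^ n, ?_⟩
    rw [map_mul, map_pow, map_pow, ha, hb, ← pow_mul, ← pow_mul, mul_pow, ← pow_add, ← pow_add, add_comm m n]
  add_mem' := by
    rintro x y ⟨n, a, ha⟩ ⟨m, b, hb⟩
    refine ⟨n + m, a ^ q ^ m + b ^ q ^ n, ?_⟩
    rw [map_add, map_pow, map_pow, ha, hb, ← pow_mul, ← pow_mul, add_pow_expChar_pow, ← pow_add, ← pow_add,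
      add_comm m n]
  neg_mem' := by
    rintro x ⟨n, a, ha⟩
    rcases neg_one_pow_eq_or B (q ^ n) with h | h
    · exact ⟨n, a, by rw [neg_pow, h, one_mul, ha]⟩
    · exact ⟨n, -a, by rw [map_neg, neg_pow, h, neg_one_mul, ha]⟩

/-- A radicial integral algebra over a strictly henselian local ring is strictly henselian local. -/
theorem strictlyHenselian_of_radicial {R T : Type u} [CommRing R] [HenselianLocalRing R]
    [IsSepClosed (ResidueField R)] [CommRing T] [Algebra R T] [Algebra.IsIntegral R T]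
    [Nontrivial (T ⧸ (maximalIdeal R).map (algebraMap R T))] (q : ℕ) (hq : 0 < q)
    (h : ∀ z : T, ∃ (n : ℕ) (r : R), z ^ q ^ n - algebraMap R T r ∈ (maximalIdeal R).map (algebraMap R T)) :
    ∃ (_ : HenselianLocalRing T), IsSepClosed (ResidueField T) ∧ IsLocalHom (algebraMap R T) := by
  let J := (maximalIdeal R).map (algebraMap R T)
  have hcomap : ∀ N : Ideal T, N.IsMaximal → N.comap (algebraMap R T) = maximalIdeal R := fun N hN =>
    IsLocalRing.eq_maximalIdeal (Ideal.isMaximal_comap_of_isIntegral_of_isMaximal (R := R) N)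
  have hmem : ∀ N : Ideal T, N.IsMaximal → ∀ (z : T) (n : ℕ) (r : R),
      z ^ q ^ n - algebraMap R T r ∈ J → (z ∈ N ↔ r ∈ maximalIdeal R) := fun N hN z n r hz => by
    have hJN : J ≤ N := Ideal.map_le_iff_le_comap.2 (hcomap N hN).ge
    rw [← hcomap N hN, Ideal.mem_comap]
    constructor
    · intro hzN
      have h1 : z ^ q ^ n ∈ N := Ideal.pow_mem_of_mem N hzN _ (pow_pos hq n)
      have := N.sub_mem h1 (hJN hz)
      rwa [sub_sub_cancel] at this
    · intro hrN
      have := N.add_mem (hJN hz) hrN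
      rw [sub_add_cancel] at this
      exact hN.isPrime.mem_of_pow_mem _ this
  haveI : Nontrivial T := (Ideal.Quotient.mk J).domain_nontrivial
  obtain ⟨N₀, hN₀⟩ := Ideal.exists_maximal T
  haveI : IsLocalRing T := IsLocalRing.of_unique_max_ideal ⟨N₀, hN₀, fun N hN => by
    ext z
    obtain ⟨n, r, hz⟩ := h z
    rw [hmem N hN z n r hz, hmem N₀ hN₀ z n r hz]⟩
  haveI : IsLocalHom (algebraMap R T) :=
    ((IsLocalRing.local_hom_TFAE (algebraMap R T)).out 4 0).1
      (hcomap (maximalIdeal T) inferInstance)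
  haveI hH : HenselianLocalRing T := StrictHens.Basic.henselianLocalRing_of_integral (R := R)
  haveI : Algebra.IsAlgebraic (ResidueField R) (ResidueField T) := ⟨fun z => by
    obtain ⟨z, rfl⟩ := IsLocalRing.residue_surjective z
    have h1 : IsIntegral R (residue T z) :=
      (Algebra.IsIntegral.isIntegral (R := R) z).map (IsScalarTower.toAlgHom R T (ResidueField T))
    exact (h1.tower_top (A := ResidueField R)).isAlgebraic⟩
  exact ⟨hH, Algebra.IsAlgebraic.isSepClosed (F := ResidueField R), inferInstance⟩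

end Groth.Agent.ZeroAcyc
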