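import Groth.Agent.ZeroAcyc.FacGood
import Groth.Agent.ZeroAcyc.Radicial

/-!
Transfer of idempotents in geometric fibres along radicial base changes.
-/

set_option autoImplicit false
set_option linter.style.haveILetI false
set_option backward.isDefEq.respectTransparency.types false

universe u

open scoped TensorProduct
open Groth.Agent.IndAlg IsLocalRing

attribute [local instance] Algebra.TensorProduct.rightAlgebra

namespace Groth.Agent.ZeroAcyc

/-- Every prime is the kernel of a map to an algebraically closed field. -/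
theorem exists_algClosed_hom {T : Type u} [CommRing T] (P : Ideal T) [P.IsPrime] :
    ∃ (K : Type u) (_ : Field K) (_ : IsAlgClosed K) (φ : T →+* K), ∀ x, φ x = 0 → x ∈ P := by
  refine ⟨AlgebraicClosure (FractionRing (T ⧸ P)), inferInstance, inferInstance,
    ((algebraMap (FractionRing (T ⧸ P)) _).comp (algebraMap _ _)).comp (Ideal.Quotient.mk P), fun x hx => ?_⟩
  refine Ideal.Quotient.eq_zero_iff_mem.1 ?_
  refine IsFractionRing.injective _ (FractionRing (T ⧸ P)) ?_
  refine (algebraMap (FractionRing (T ⧸ P)) (AlgebraicClosure (FractionRing (T ⧸ P)))).injective ?_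
  rw [map_zero, map_zero]
  exact hx

/-- Any field maps to an algebraically closed one. -/
theorem exists_algClosed_extension (F : Type u) [Field F] :
    ∃ (K : Type u) (_ : Field K) (_ : IsAlgClosed K), Nonempty (F →+* K) :=
  ⟨AlgebraicClosure F, inferInstance, inferInstance, ⟨algebraMap _ _⟩⟩

variable {B B' R : Type u} [CommRing B] [CommRing B'] [Algebra B B'] [CommRing R] [Algebra B R]

/-- A radicial base change of a strictly henselian ring is strictly henselian. -/
theorem strictlyHenselian_radicial_tensor [HenselianLocalRing R] [IsSepClosed (ResidueField R)] (q : ℕ)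
    (hB : ∀ z : B', ∃ (n : ℕ) (b : B), z ^ q ^ n = algebraMap B B' b)
    {K : Type u} [Field K] [ExpChar K q] (σ : R →+* K) (hσ : ∀ x ∈ maximalIdeal R, σ x = 0)
    (ψ : B' →+* K) (hψ : ψ.comp (algebraMap B B') = σ.comp (algebraMap B R)) :
    ∃ (_ : HenselianLocalRing (B' ⊗[B] R)), IsSepClosed (ResidueField (B' ⊗[B] R)) ∧
      IsLocalHom (algebraMap R (B' ⊗[B] R)) ∧
      ∀ z : B' ⊗[B] R, ∃ (n : ℕ) (r : R), z ^ q ^ n - algebraMap R (B' ⊗[B] R) r ∈
        (maximalIdeal R).map (algebraMap R (B' ⊗[B] R)) := by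
  classical
  have hq : 0 < q := expChar_pos K q
  have hmap : ∀ b : B, algebraMap R (B' ⊗[B] R) (algebraMap B R b) = algebraMap B B' b ⊗ₜ 1 := fun b =>
    (Algebra.TensorProduct.includeRight : R →ₐ[B] B' ⊗[B] R).commutes b
  haveI : Algebra.IsIntegral R (B' ⊗[B] R) := ⟨fun z => by
    induction z using TensorProduct.induction_on with
    | zero => exact isIntegral_zero
    | add x y hx hy => exact hx.add hy
    | tmul u x =>
      have e1 : (u ⊗ₜ[B] x : B' ⊗[B] R) = (u ⊗ₜ[B] (1 : R)) * algebraMap R (B' ⊗[B] R) x := by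
        show _ = (u ⊗ₜ[B] (1 : R)) * ((1 : B') ⊗ₜ[B] x)
        simp
      rw [e1]
      refine IsIntegral.mul ?_ isIntegral_algebraMap
      obtain ⟨n, b, hb⟩ := hB u
      refine IsIntegral.of_pow (pow_pos hq n) ?_
      rw [Algebra.TensorProduct.tmul_pow, one_pow, hb, ← hmap]
      exact isIntegral_algebraMap⟩
  let J : Ideal (B' ⊗[B] R) := (maximalIdeal R).map (algebraMap R (B' ⊗[B] R))
  letI : Algebra B K := (σ.comp (algebraMap B R)).toAlgebra
  let θ : B' ⊗[B] R →ₐ[B] K := Algebra.TensorProduct.lift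
    { ψ with commutes' := fun b => RingHom.congr_fun hψ b } { σ with commutes' := fun _ => rfl }
    fun _ _ => .all _ _
  have hθ : ∀ x, θ (algebraMap R (B' ⊗[B] R) x) = σ x := fun x => by
    show θ (1 ⊗ₜ x) = σ x
    simp [θ]
  have hJ : J ≤ RingHom.ker θ.toRingHom :=
    Ideal.map_le_iff_le_comap.2 fun x hx => (hθ x).trans (hσ x hx)
  haveI : Nontrivial ((B' ⊗[B] R) ⧸ J) :=
    Ideal.Quotient.nontrivial_iff.2 fun h => RingHom.ker_ne_top θ.toRingHom (top_le_iff.1 (h ▸ hJ))
  let χ : ResidueField R →+* (B' ⊗[B] R) ⧸ J := Ideal.Quotient.lift (maximalIdeal R)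
    ((Ideal.Quotient.mk J).comp (algebraMap R (B' ⊗[B] R)))
    fun o ho => Ideal.Quotient.eq_zero_iff_mem.2 (Ideal.mem_map_of_mem _ ho)
  haveI : ExpChar (ResidueField R) q :=
    RingHom.expChar (A := K) (show ResidueField R →+* K from Ideal.Quotient.lift (maximalIdeal R) σ hσ)
      (RingHom.injective _) q
  haveI : ExpChar ((B' ⊗[B] R) ⧸ J) q := expChar_of_injective_ringHom (f := χ) χ.injective q
  let π : B' ⊗[B] R →+* (B' ⊗[B] R) ⧸ J := Ideal.Quotient.mk J
  let S : Subring ((B' ⊗[B] R) ⧸ J) := powImage (π.comp (algebraMap R (B' ⊗[B] R))) q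
  have hS : ∀ z, π z ∈ S := fun z => by
    induction z using TensorProduct.induction_on with
    | zero => rw [map_zero]; exact S.zero_mem
    | add x y hx hy => rw [map_add]; exact S.add_mem hx hy
    | tmul u x =>
      have e1 : (u ⊗ₜ[B] x : B' ⊗[B] R) = (u ⊗ₜ[B] (1 : R)) * algebraMap R (B' ⊗[B] R) x := by
        show _ = (u ⊗ₜ[B] (1 : R)) * ((1 : B') ⊗ₜ[B] x)
        simp
      rw [e1, map_mul]
      refine S.mul_mem ?_ ⟨0, x, by simp⟩
      obtain ⟨n, b, hb⟩ := hB u
      refine ⟨n, algebraMap B R b, ?_⟩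
      rw [← map_pow, Algebra.TensorProduct.tmul_pow, one_pow, hb, RingHom.comp_apply, hmap]
  have h : ∀ z : B' ⊗[B] R, ∃ (n : ℕ) (r : R), z ^ q ^ n - algebraMap R (B' ⊗[B] R) r ∈ J := fun z => by
    obtain ⟨n, r, hr⟩ := hS z
    refine ⟨n, r, Ideal.Quotient.eq.1 ?_⟩
    rw [map_pow]
    exact hr.symm
  obtain ⟨h1, h2, h3⟩ := strictlyHenselian_of_radicial (R := R) (T := B' ⊗[B] R) q hq h
  exact ⟨h1, h2, h3, h⟩

set_option maxHeartbeats 1000000 in
/-- Idempotents of geometric fibres are trivial if they are so after a radicial base change. -/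
theorem idem_trivial_of_radicial {R₀ R₀' RY RX : Type u} [CommRing R₀] [CommRing R₀'] [CommRing RY]
    [CommRing RX] [Algebra R₀ B] [Algebra R₀ R₀'] [Algebra R₀' B']
    (hsq : ∀ r, algebraMap R₀' B' (algebraMap R₀ R₀' r) = algebraMap B B' (algebraMap R₀ B r))
    [HenselianLocalRing RY] [HenselianLocalRing RX] [IsSepClosed (ResidueField RY)]
    [IsSepClosed (ResidueField RX)] [Algebra R₀ RY] [Algebra B RX] [Algebra RY RX]
    [IsLocalHom (algebraMap RY RX)]
    (hcompat : ∀ r, algebraMap B RX (algebraMap R₀ B r) = algebraMap RY RX (algebraMap R₀ RY r))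
    (q : ℕ) (hq : ∀ (K : Type u) [Field K], (B →+* K) → ExpChar K q)
    (hR : ∀ z : R₀', ∃ (n : ℕ) (r : R₀), z ^ q ^ n = algebraMap R₀ R₀' r)
    (hB : ∀ z : B', ∃ (n : ℕ) (b : B), z ^ q ^ n = algebraMap B B' b)
    (hext : ∀ (K : Type u) [Field K] [IsAlgClosed K] (φ : B →+* K),
      ∃ ψ : B' →+* K, ψ.comp (algebraMap B B') = φ)
    (hRY : Fac (IndAlg.Etale.Et R₀) RY) (hRX : Fac (IndAlg.Etale.Et B) RX) (hgood : Fac (Good R₀') B')
    {L : Type u} [Field L] [Algebra RY L] (e : RX ⊗[RY] L) (he : IsIdempotentElem e) :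
    e = 0 ∨ e = 1 := by
  classical
  by_cases hT : Subsingleton (RX ⊗[RY] L)
  · exact Or.inl (Subsingleton.elim _ _)
  haveI : Nontrivial (RX ⊗[RY] L) := not_subsingleton_iff_nontrivial.1 hT
  obtain ⟨P₀, hP₀⟩ := Ideal.exists_maximal (RX ⊗[RY] L)
  haveI : P₀.IsPrime := hP₀.isPrime
  obtain ⟨K, _, _, φ₀, -⟩ := exists_algClosed_hom P₀
  let φL : L →+* K := φ₀.comp (Algebra.TensorProduct.includeRight : L →ₐ[RY] RX ⊗[RY] L).toRingHom
  letI : Algebra RY K := (φL.comp (algebraMap RY L)).toAlgebra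
  letI : Algebra L K := φL.toAlgebra
  haveI : IsScalarTower RY L K := .of_algebraMap_eq fun _ => rfl
  obtain ⟨ret, hret⟩ := (Algebra.linearMap L K).exists_leftInverse_of_injective
    (LinearMap.ker_eq_bot.2 (algebraMap L K).injective)
  let ι : RX ⊗[RY] L →ₐ[RY] RX ⊗[RY] K :=
    Algebra.TensorProduct.map (AlgHom.id RY RX) (IsScalarTower.toAlgHom RY L K)
  have hι : Function.Injective ι := by
    refine Function.LeftInverse.injective (g := LinearMap.lTensor RX (ret.restrictScalars RY)) fun z => ?_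
    induction z using TensorProduct.induction_on with
    | zero => simp
    | add x y hx hy => simp only [map_add, hx, hy]
    | tmul x l =>
      show LinearMap.lTensor RX (ret.restrictScalars RY) (x ⊗ₜ algebraMap L K l) = x ⊗ₜ l
      rw [LinearMap.lTensor_tmul]
      congr 1
      exact LinearMap.congr_fun hret l
  -- structure on the base changes
  obtain ⟨ψ, hψ⟩ := hext K ((φ₀.comp (Algebra.TensorProduct.includeLeftRingHom)).comp (algebraMap B RX))
  let RX' : Type u := B' ⊗[B] RX
  let RY' : Type u := R₀' ⊗[R₀] RY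
  obtain ⟨Kx, _, _, ⟨ax⟩⟩ := exists_algClosed_extension (ResidueField RX)
  let σx : RX →+* Kx := ax.comp (residue RX)
  have hσx : ∀ x ∈ maximalIdeal RX, σx x = 0 := fun x hx => by
    show ax (residue RX x) = 0
    rw [(residue_eq_zero_iff x).2 hx, map_zero]
  obtain ⟨ψx, hψx⟩ := hext Kx (σx.comp (algebraMap B RX))
  haveI : ExpChar Kx q := hq Kx (σx.comp (algebraMap B RX))
  obtain ⟨hHX, hsX, hlX, hpX⟩ := strictlyHenselian_radicial_tensor q hB σx hσx ψx hψx
  obtain ⟨hHY, hsY, hlY, hpY⟩ := strictlyHenselian_radicial_tensor (B := R₀) (B' := R₀') q hR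
    (σx.comp (algebraMap RY RX)) (fun y hy => hσx _ ((mem_maximalIdeal _).2 (map_nonunit _ y hy)))
    (ψx.comp (algebraMap R₀' B')) (RingHom.ext fun r => by
      show ψx (algebraMap R₀' B' (algebraMap R₀ R₀' r)) = σx (algebraMap RY RX (algebraMap R₀ RY r))
      rw [hsq, ← hcompat]
      exact RingHom.congr_fun hψx _)
  haveI : IsScalarTower R₀' B' RX' := inferInstanceAs (IsScalarTower R₀' B' (B' ⊗[B] RX))
  letI : Algebra R₀ RX' := ((algebraMap R₀' RX').comp (algebraMap R₀ R₀')).toAlgebra
  haveI : IsScalarTower R₀ R₀' RX' := .of_algebraMap_eq fun _ => rfl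
  let yX : RY →ₐ[R₀] RX' := { (algebraMap RX RX').comp (algebraMap RY RX) with
    commutes' := fun r => by
      show algebraMap RX RX' (algebraMap RY RX (algebraMap R₀ RY r)) =
        algebraMap B' RX' (algebraMap R₀' B' (algebraMap R₀ R₀' r))
      rw [← hcompat, hsq]
      exact (Algebra.TensorProduct.includeRight : RX →ₐ[B] RX').commutes _ }
  let yMap : RY' →ₐ[R₀'] RX' :=
    Algebra.TensorProduct.lift (Algebra.ofId R₀' RX') yX fun _ _ => .all _ _
  have hy₂ : ∀ y, yMap (algebraMap RY RY' y) = algebraMap RX RX' (algebraMap RY RX y) := fun y => by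
    show yMap ((1 : R₀') ⊗ₜ[R₀] y) = _
    refine (Algebra.TensorProduct.lift_tmul _ _ _ _ _).trans ?_
    show Algebra.ofId R₀' RX' 1 * algebraMap RX RX' (algebraMap RY RX y) = _
    rw [map_one, one_mul]
  letI : Algebra RY' RX' := yMap.toRingHom.toAlgebra
  haveI : IsScalarTower R₀' RY' RX' := .of_algebraMap_eq fun r => (yMap.commutes r).symm
  haveI : IsLocalHom (algebraMap RY' RX') := ⟨fun y hy => by
    by_contra hyn
    obtain ⟨n, r, hz⟩ := hpY y
    have hJle : (maximalIdeal RY).map (algebraMap RY RY') ≤ maximalIdeal RY' :=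
      Ideal.map_le_iff_le_comap.2 fun a ha => (mem_maximalIdeal _).2 (map_nonunit _ a ha)
    have hrn : r ∈ maximalIdeal RY := (mem_maximalIdeal r).2 fun hu => by
      have h1 := (maximalIdeal RY').sub_mem
        (Ideal.pow_mem_of_mem _ ((mem_maximalIdeal y).2 hyn) _ (pow_pos (expChar_pos Kx q) n)) (hJle hz)
      rw [sub_sub_cancel] at h1
      exact (mem_maximalIdeal _).1 h1 (hu.map _)
    have h1 : y ^ q ^ n ∈ (maximalIdeal RY).map (algebraMap RY RY') := by
      have := Ideal.add_mem _ hz (Ideal.mem_map_of_mem _ hrn)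
      rwa [sub_add_cancel] at this
    have h2 : yMap (y ^ q ^ n) ∈ maximalIdeal RX' := by
      refine (Ideal.map_le_iff_le_comap.2 ?_ : _ ≤ (maximalIdeal RX').comap yMap.toRingHom) h1
      intro a ha
      show yMap (algebraMap RY RY' a) ∈ maximalIdeal RX'
      rw [hy₂]
      exact (mem_maximalIdeal _).2 (map_nonunit _ _ ((mem_maximalIdeal _).1
        ((mem_maximalIdeal _).2 (map_nonunit (algebraMap RY RX) a ha))))
    rw [map_pow] at h2
    exact (mem_maximalIdeal _).1 h2 (hy.pow _)⟩
  -- the point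
  letI : Algebra R₀ K := ((algebraMap RY K).comp (algebraMap R₀ RY)).toAlgebra
  letI : Algebra R₀' K := (ψ.comp (algebraMap R₀' B')).toAlgebra
  have hmid : ∀ y, φ₀ (algebraMap RY RX y ⊗ₜ 1) = algebraMap RY K y := fun y => by
    show _ = φ₀ (1 ⊗ₜ algebraMap RY L y)
    rw [Algebra.algebraMap_eq_smul_one, Algebra.algebraMap_eq_smul_one, TensorProduct.smul_tmul]
  haveI : IsScalarTower R₀ R₀' K := .of_algebraMap_eq fun r => by
    show algebraMap RY K (algebraMap R₀ RY r) = ψ (algebraMap R₀' B' (algebraMap R₀ R₀' r))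
    rw [← hmid, ← hcompat, hsq]
    exact (RingHom.congr_fun hψ _).symm
  let yK : RY' →ₐ[R₀'] K := Algebra.TensorProduct.lift (Algebra.ofId R₀' K)
    ({ algebraMap RY K with commutes' := fun _ => rfl } : RY →ₐ[R₀] K) fun _ _ => .all _ _
  letI : Algebra RY' K := yK.toRingHom.toAlgebra
  have hyK : ∀ y, algebraMap RY' K (algebraMap RY RY' y) = algebraMap RY K y := fun y => by
    show yK ((1 : R₀') ⊗ₜ[R₀] y) = _
    refine (Algebra.TensorProduct.lift_tmul _ _ _ _ _).trans ?_
    show Algebra.ofId R₀' K 1 * algebraMap RY K y = _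
    rw [map_one, one_mul]
  letI : Algebra RY RX' := ((algebraMap RX RX').comp (algebraMap RY RX)).toAlgebra
  haveI : IsScalarTower RY RY' RX' := .of_algebraMap_eq fun y => (hy₂ y).symm
  haveI : IsScalarTower RY RY' K := .of_algebraMap_eq fun y => (hyK y).symm
  haveI : IsScalarTower RY RX RX' := .of_algebraMap_eq fun _ => rfl
  let α : RX ⊗[RY] K →ₐ[RY] RX' ⊗[RY'] K := Algebra.TensorProduct.lift
    ((IsScalarTower.toAlgHom RY RX' (RX' ⊗[RY'] K)).comp (IsScalarTower.toAlgHom RY RX RX'))
    ((Algebra.TensorProduct.includeRight : K →ₐ[RY'] RX' ⊗[RY'] K).restrictScalars RY) fun _ _ => .all _ _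
  -- the kernel of `α` is nil
  have hα : ∀ z, α z = 0 → IsNilpotent z := by
    intro z hz
    rw [← mem_nilradical, nilradical_eq_sInf, Ideal.mem_sInf]
    intro P hP
    haveI : P.IsPrime := hP
    obtain ⟨K', _, _, φ, hφ⟩ := exists_algClosed_hom P
    let φx : RX →+* K' := φ.comp Algebra.TensorProduct.includeLeftRingHom
    let φK : K →+* K' := φ.comp (Algebra.TensorProduct.includeRight : K →ₐ[RY] RX ⊗[RY] K).toRingHom
    obtain ⟨ψ', hψ'⟩ := hext K' (φx.comp (algebraMap B RX))
    haveI : ExpChar K' q := hq K' (φx.comp (algebraMap B RX))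
    letI : Algebra B K' := (φx.comp (algebraMap B RX)).toAlgebra
    let θ : RX' →ₐ[B] K' := Algebra.TensorProduct.lift
      { ψ' with commutes' := fun b => RingHom.congr_fun hψ' b } { φx with commutes' := fun _ => rfl }
      fun _ _ => .all _ _
    have hθ : ∀ x, θ (algebraMap RX RX' x) = φx x := fun x => by
      show θ ((1 : B') ⊗ₜ[B] x) = _
      refine (Algebra.TensorProduct.lift_tmul _ _ _ _ _).trans ?_
      show ψ' 1 * φx x = _
      rw [map_one, one_mul]
    letI : Algebra RY' K' := (φK.comp (algebraMap RY' K)).toAlgebra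
    have hy : ∀ y, φK (algebraMap RY K y) = φx (algebraMap RY RX y) := fun y => by
      show φ (1 ⊗ₜ algebraMap RY K y) = φ (algebraMap RY RX y ⊗ₜ 1)
      rw [Algebra.algebraMap_eq_smul_one, Algebra.algebraMap_eq_smul_one, TensorProduct.smul_tmul]
    have hθy : ∀ y' : RY', θ (algebraMap RY' RX' y') = algebraMap RY' K' y' := fun y' => by
      induction y' using TensorProduct.induction_on with
      | zero => simp
      | add a b ha hb => simp only [map_add, ha, hb]
      | tmul a y =>
        have e1 : (a ⊗ₜ[R₀] y : RY') = algebraMap R₀' RY' a * algebraMap RY RY' y := by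
          show _ = (a ⊗ₜ[R₀] (1 : RY)) * ((1 : R₀') ⊗ₜ[R₀] y)
          simp [RY']
        rw [e1, map_mul, map_mul, map_mul]
        congr 1
        · rw [← IsScalarTower.algebraMap_apply R₀' RY' RX']
          show θ (algebraMap R₀' B' a ⊗ₜ 1) = φK (yK (algebraMap R₀' RY' a))
          rw [yK.commutes]
          obtain ⟨n, r, hr⟩ := hR a
          refine iterateFrobenius_inj K' q n ?_
          rw [iterateFrobenius_def, iterateFrobenius_def, ← map_pow, Algebra.TensorProduct.tmul_pow, ← map_pow,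
            one_pow, hr, hsq, ← map_pow, ← map_pow, hr, ← IsScalarTower.algebraMap_apply R₀ R₀' K]
          show θ (algebraMap B B' (algebraMap R₀ B r) ⊗ₜ 1) = φK (algebraMap RY K (algebraMap R₀ RY r))
          rw [hy, ← hcompat]
          exact (congrArg θ ((Algebra.TensorProduct.includeRight : RX →ₐ[B] RX').commutes _).symm).trans (hθ _)
        · show θ (yMap (algebraMap RY RY' y)) = φK (algebraMap RY' K (algebraMap RY RY' y))
          rw [hy₂, hθ, hyK, hy]
    let β : RX' ⊗[RY'] K →ₐ[RY'] K' := Algebra.TensorProduct.lift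
      { θ.toRingHom with commutes' := hθy } { φK with commutes' := fun _ => rfl } fun _ _ => .all _ _
    have hβα : ∀ w, β (α w) = φ w := by
      intro w
      induction w using TensorProduct.induction_on with
      | zero => simp
      | add a b ha hb => simp only [map_add, ha, hb]
      | tmul x l =>
        simp only [α, Algebra.TensorProduct.lift_tmul]
        show β ((algebraMap RX RX' x ⊗ₜ[RY'] (1 : K)) * ((1 : RX') ⊗ₜ[RY'] l)) = _
        rw [Algebra.TensorProduct.tmul_mul_tmul, one_mul, mul_one]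
        simp only [β, Algebra.TensorProduct.lift_tmul]
        show θ (algebraMap RX RX' x) * φ (1 ⊗ₜ l) = φ (x ⊗ₜ l)
        rw [hθ]
        show φ (x ⊗ₜ 1) * φ (1 ⊗ₜ l) = _
        rw [← map_mul, Algebra.TensorProduct.tmul_mul_tmul, one_mul, mul_one]
    have h0 : φ z = 0 := by rw [← hβα, hz, map_zero]
    exact hφ z h0
  haveI : IsSepClosed (ResidueField RX') := hsX
  haveI : IsSepClosed (ResidueField RY') := hsY
  have key : ι e = 0 ∨ ι e = 1 := by
    rcases idem_trivial (R₀ := R₀') (RY := RY') (RX := RX') (L := K)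
      (Groth.Agent.IndAlg.Etale.fac_baseChange hRY)
      (fac_good_trans hgood (Groth.Agent.IndAlg.Etale.fac_baseChange hRX))
      (α (ι e)) ((he.map ι).map α) with h | h
    · exact Or.inl ((he.map ι).eq_zero_of_isNilpotent (hα _ h))
    · refine Or.inr ?_
      have h1 := ((he.map ι).one_sub).eq_zero_of_isNilpotent (hα _ (by rw [map_sub, map_one, h, sub_self]))
      exact (sub_eq_zero.1 h1).symm
  rcases key with h | h
  · exact Or.inl (hι (h.trans (map_zero ι).symm))
  · exact Or.inr (hι (h.trans (map_one ι).symm))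

end Groth.Agent.ZeroAcyc
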