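import Groth.Agent.ZeroAcyc.FacGood
import Groth.Agent.ZeroAcyc.RadBC
import Groth.Agent.FBase.BC
import Groth.Agent.PurTrans.Transc
import Mathlib.FieldTheory.PurelyInseparable.PerfectClosure

/-!
Geometric fibres of maps of strictly henselian rings over a base with one prime are connected.
-/

set_option autoImplicit false
set_option linter.style.haveILetI false
set_option backward.isDefEq.respectTransparency.types false

universe u

open CategoryTheory CategoryTheory.Limits AlgebraicGeometry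
open scoped TensorProduct
open Groth.Agent.IndAlg

namespace Groth.Agent.ZeroAcyc

/-- Reduced algebras over a perfect field become ind-good after base change. -/
theorem fac_good_of_perfect {k A : Type u} [Field k] [PerfectField k] [CommRing A] [Algebra k A]
    (C : Type u) [CommRing C] [Algebra k C] [IsReduced C] : Fac (Good A) (A ⊗[k] C) := by
  let Q : ∀ (E : Type u) [CommRing E] [Algebra k E], Prop :=
    fun E _ _ => Algebra.FinitePresentation k E ∧ IsReduced E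
  have h : Fac Q C := by
    intro Z _ _ hZ g
    haveI : Algebra.FinitePresentation k Z := hZ
    haveI : Algebra.FiniteType k g.range :=
      Algebra.FiniteType.of_surjective g.rangeRestrict g.rangeRestrict_surjective
    exact ⟨g.range, inferInstance, inferInstance,
      ⟨Algebra.FinitePresentation.of_finiteType.1 inferInstance,
        isReduced_of_injective g.range.val Subtype.val_injective⟩, g.rangeRestrict, g.range.val,
      AlgHom.ext fun _ => rfl⟩
  refine fac_baseChange_gen (fun E _ _ hE => hE.1) (fun E E' _ _ _ _ e hE => ?_) (fun E _ _ hE => ?_) h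
  · haveI := hE.1
    haveI := hE.2
    exact ⟨Algebra.FinitePresentation.equiv e, isReduced_of_injective e.symm.toAlgHom e.symm.injective⟩
  · haveI := hE.1
    haveI := hE.2
    refine ⟨inferInstance, inferInstance, ?_⟩
    haveI : AlgebraicGeometry.IsReduced (Spec (CommRingCat.of E)) :=
      (affine_isReduced_iff (CommRingCat.of E)).2 hE.2
    haveI hgr : GeometricallyReduced (Spec.map (CommRingCat.ofHom (algebraMap k E))) :=
      Groth.Agent.FBase.BC.geometricallyReduced_specMap_of_perfectField _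
    have hc : Spec.map (CommRingCat.ofHom (algebraMap A (A ⊗[k] E))) =
        (pullbackSpecIso k A E).inv ≫ pullback.fst _ _ := (pullbackSpecIso_inv_fst' _ _ _).symm
    rw [hc]
    exact geometricallyReduced_etale_comp _ _

/-- The perfection of a field. -/
theorem exists_perfection (κ : Type u) [Field κ] :
    ∃ (kp : Type u) (_ : Field kp) (_ : Algebra κ kp), PerfectField kp ∧ IsPurelyInseparable κ kp :=
  ⟨perfectClosure κ (AlgebraicClosure κ), inferInstance, inferInstance, inferInstance, inferInstance⟩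

attribute [local instance] Algebra.TensorProduct.rightAlgebra

set_option maxHeartbeats 1000000 in
/-- The radicial model over the perfection. -/
theorem exists_radicial_model {O C R₀ kp C₀ : Type u} [CommRing O] [CommRing C] [Algebra O C] [CommRing R₀]
    [Algebra O R₀] [Field kp] [PerfectField kp] [Algebra O kp] [CommRing C₀] [Algebra kp C₀]
    [_root_.IsReduced C₀] (π : kp ⊗[O] C →ₐ[kp] C₀) (hπs : Function.Surjective π)
    (hπn : ∀ a, π a = 0 → IsNilpotent a) (q : ℕ) [ExpChar kp q]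
    (hkO : ∀ t : kp, ∃ (n : ℕ) (o : O), t ^ q ^ n = algebraMap O kp o)
    (hfield : ∀ (K : Type u) [Field K] [IsAlgClosed K] (φ : O →+* K),
      ∃ j : kp →+* K, j.comp (algebraMap O kp) = φ) :
    ∃ (B' : Type u) (_ : CommRing B') (_ : Algebra (C ⊗[O] R₀) B') (_ : Algebra (kp ⊗[O] R₀) B'),
      Fac (Good (kp ⊗[O] R₀)) B' ∧
      (∀ r : R₀, algebraMap (kp ⊗[O] R₀) B' (algebraMap R₀ (kp ⊗[O] R₀) r) =
        algebraMap (C ⊗[O] R₀) B' (algebraMap R₀ (C ⊗[O] R₀) r)) ∧
      (∀ z : B', ∃ (n : ℕ) (b : C ⊗[O] R₀), z ^ q ^ n = algebraMap (C ⊗[O] R₀) B' b) ∧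
      ∀ (K : Type u) [Field K] [IsAlgClosed K] (φ : C ⊗[O] R₀ →+* K),
        ∃ ψ : B' →+* K, ψ.comp (algebraMap (C ⊗[O] R₀) B') = φ := by
  classical
  have hr₀ : ∀ o : O, algebraMap R₀ (kp ⊗[O] R₀) (algebraMap O R₀ o) =
      algebraMap kp (kp ⊗[O] R₀) (algebraMap O kp o) :=
    fun o => ((Algebra.TensorProduct.includeRight : R₀ →ₐ[O] kp ⊗[O] R₀).commutes o)
  let cMap : C →+* ((kp ⊗[O] R₀) ⊗[kp] C₀) :=
    (Algebra.TensorProduct.includeRight : C₀ →ₐ[kp] ((kp ⊗[O] R₀) ⊗[kp] C₀)).toRingHom.comp (π.toRingHom.comp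
      (Algebra.TensorProduct.includeRight : C →ₐ[O] kp ⊗[O] C).toRingHom)
  let rMap : R₀ →+* ((kp ⊗[O] R₀) ⊗[kp] C₀) := (algebraMap (kp ⊗[O] R₀) ((kp ⊗[O] R₀) ⊗[kp] C₀)).comp (algebraMap R₀ (kp ⊗[O] R₀))
  have hkp : ∀ t : kp, algebraMap (kp ⊗[O] R₀) ((kp ⊗[O] R₀) ⊗[kp] C₀) (algebraMap kp (kp ⊗[O] R₀) t) =
      (1 : (kp ⊗[O] R₀)) ⊗ₜ[kp] algebraMap kp C₀ t := fun t => by
    show algebraMap kp (kp ⊗[O] R₀) t ⊗ₜ[kp] (1 : C₀) = _
    rw [Algebra.algebraMap_eq_smul_one, Algebra.algebraMap_eq_smul_one, TensorProduct.smul_tmul]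
  have hO : ∀ o : O, rMap (algebraMap O R₀ o) = cMap (algebraMap O C o) := fun o => by
    show algebraMap (kp ⊗[O] R₀) ((kp ⊗[O] R₀) ⊗[kp] C₀) (algebraMap R₀ (kp ⊗[O] R₀) (algebraMap O R₀ o)) = _
    rw [hr₀, hkp]
    show _ = (1 : (kp ⊗[O] R₀)) ⊗ₜ[kp] π
      ((Algebra.TensorProduct.includeRight : C →ₐ[O] kp ⊗[O] C) (algebraMap O C o))
    rw [AlgHom.commutes, ← π.commutes (algebraMap O kp o)]
    rfl
  have hOB : ∀ o : O, rMap (algebraMap O R₀ o) = algebraMap O ((kp ⊗[O] R₀) ⊗[kp] C₀) o := fun o => by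
    show algebraMap (kp ⊗[O] R₀) ((kp ⊗[O] R₀) ⊗[kp] C₀) (algebraMap R₀ (kp ⊗[O] R₀) (algebraMap O R₀ o)) = algebraMap (kp ⊗[O] R₀) ((kp ⊗[O] R₀) ⊗[kp] C₀) (algebraMap O (kp ⊗[O] R₀) o)
    exact congrArg _ ((Algebra.TensorProduct.includeRight : R₀ →ₐ[O] (kp ⊗[O] R₀)).commutes o)
  let bMap : (C ⊗[O] R₀) →ₐ[O] ((kp ⊗[O] R₀) ⊗[kp] C₀) :=
    Algebra.TensorProduct.lift { cMap with commutes' := fun o => (hO o).symm.trans (hOB o) } { rMap with commutes' := hOB }
      fun _ _ => .all _ _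
  have hb : ∀ c r, bMap (c ⊗ₜ r) = cMap c * rMap r := fun c r => Algebra.TensorProduct.lift_tmul _ _ _ _ _
  letI algB : Algebra (C ⊗[O] R₀) ((kp ⊗[O] R₀) ⊗[kp] C₀) := bMap.toRingHom.toAlgebra
  have hRb : ∀ r : R₀, bMap (algebraMap R₀ (C ⊗[O] R₀) r) = rMap r := fun r => by
    show bMap ((1 : C) ⊗ₜ[O] r) = _
    rw [hb, map_one, one_mul]
  have hB : ∀ z : ((kp ⊗[O] R₀) ⊗[kp] C₀), ∃ (n : ℕ) (b : (C ⊗[O] R₀)), z ^ q ^ n = algebraMap (C ⊗[O] R₀) ((kp ⊗[O] R₀) ⊗[kp] C₀) b := by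
    by_cases h : Subsingleton ((kp ⊗[O] R₀) ⊗[kp] C₀)
    · exact fun z => ⟨0, 0, Subsingleton.elim _ _⟩
    haveI : Nontrivial ((kp ⊗[O] R₀) ⊗[kp] C₀) := not_subsingleton_iff_nontrivial.1 h
    haveI : ExpChar ((kp ⊗[O] R₀) ⊗[kp] C₀) q :=
      expChar_of_injective_ringHom (f := (algebraMap (kp ⊗[O] R₀) ((kp ⊗[O] R₀) ⊗[kp] C₀)).comp (algebraMap kp (kp ⊗[O] R₀))) (RingHom.injective _) q
    let S := powImage (algebraMap (C ⊗[O] R₀) ((kp ⊗[O] R₀) ⊗[kp] C₀)) q
    have hc : ∀ c : C, cMap c ∈ S := fun c => ⟨0, c ⊗ₜ 1, by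
      show bMap (c ⊗ₜ 1) = _
      rw [hb, map_one, mul_one, pow_zero, pow_one]⟩
    have hr : ∀ r : R₀, rMap r ∈ S := fun r => ⟨0, algebraMap R₀ (C ⊗[O] R₀) r, by
      show bMap (algebraMap R₀ (C ⊗[O] R₀) r) = _
      rw [hRb, pow_zero, pow_one]⟩
    have hk : ∀ t : kp, algebraMap (kp ⊗[O] R₀) ((kp ⊗[O] R₀) ⊗[kp] C₀) (algebraMap kp (kp ⊗[O] R₀) t) ∈ S := fun t => by
      obtain ⟨n, o, ho⟩ := hkO t
      refine ⟨n, algebraMap O (C ⊗[O] R₀) o, ?_⟩
      rw [← map_pow, ← map_pow, ho, ← hr₀]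
      show bMap (algebraMap O (C ⊗[O] R₀) o) = rMap (algebraMap O R₀ o)
      rw [AlgHom.commutes, hOB]
    have hmem : ∀ z : ((kp ⊗[O] R₀) ⊗[kp] C₀), z ∈ S := fun z => by
      induction z using TensorProduct.induction_on with
      | zero => exact S.zero_mem
      | add x y hx hy => exact S.add_mem hx hy
      | tmul a c =>
        have e2 : (a ⊗ₜ[kp] c : ((kp ⊗[O] R₀) ⊗[kp] C₀)) = algebraMap (kp ⊗[O] R₀) ((kp ⊗[O] R₀) ⊗[kp] C₀) a * ((1 : (kp ⊗[O] R₀)) ⊗ₜ[kp] c) := by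
          show _ = (a ⊗ₜ[kp] (1 : C₀)) * ((1 : (kp ⊗[O] R₀)) ⊗ₜ[kp] c)
          simp
        rw [e2]
        clear e2
        refine S.mul_mem ?_ ?_
        · induction a using TensorProduct.induction_on with
          | zero => rw [map_zero]; exact S.zero_mem
          | add x y hx hy => rw [map_add]; exact S.add_mem hx hy
          | tmul t r =>
            have e3 : (t ⊗ₜ[O] r : (kp ⊗[O] R₀)) = algebraMap kp (kp ⊗[O] R₀) t * algebraMap R₀ (kp ⊗[O] R₀) r := by
              show _ = (t ⊗ₜ[O] (1 : R₀)) * ((1 : kp) ⊗ₜ[O] r)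
              simp
            rw [e3, map_mul]
            exact S.mul_mem (hk t) (hr r)
        · obtain ⟨c, rfl⟩ := hπs c
          induction c using TensorProduct.induction_on with
          | zero => rw [map_zero, TensorProduct.tmul_zero]; exact S.zero_mem
          | add x y hx hy => rw [map_add, TensorProduct.tmul_add]; exact S.add_mem hx hy
          | tmul t c =>
            have e4 : ((1 : (kp ⊗[O] R₀)) ⊗ₜ[kp] π (t ⊗ₜ[O] c) : ((kp ⊗[O] R₀) ⊗[kp] C₀)) =
                algebraMap (kp ⊗[O] R₀) ((kp ⊗[O] R₀) ⊗[kp] C₀) (algebraMap kp (kp ⊗[O] R₀) t) * cMap c := by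
              rw [hkp]
              show _ = ((1 : (kp ⊗[O] R₀)) ⊗ₜ[kp] algebraMap kp C₀ t) *
                ((1 : (kp ⊗[O] R₀)) ⊗ₜ[kp] π ((1 : kp) ⊗ₜ[O] c))
              rw [Algebra.TensorProduct.tmul_mul_tmul, one_mul]
              congr 1
              rw [← AlgHom.commutes π t]
              show _ = π (t ⊗ₜ[O] (1 : C)) * _
              rw [← map_mul, Algebra.TensorProduct.tmul_mul_tmul, mul_one, one_mul]
            rw [e4]
            exact S.mul_mem (hk t) (hc c)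
    exact fun z => by
      obtain ⟨n, r, hr⟩ := hmem z
      exact ⟨n, r, hr.symm⟩
  have hext : ∀ (K : Type u) [Field K] [IsAlgClosed K] (φ : (C ⊗[O] R₀) →+* K),
      ∃ ψ : ((kp ⊗[O] R₀) ⊗[kp] C₀) →+* K, ψ.comp (algebraMap (C ⊗[O] R₀) ((kp ⊗[O] R₀) ⊗[kp] C₀)) = φ := by
    intro K _ _ φ
    obtain ⟨j, hj⟩ := hfield K (φ.comp (algebraMap O (C ⊗[O] R₀)))
    letI : Algebra O K := (φ.comp (algebraMap O (C ⊗[O] R₀))).toAlgebra
    letI : Algebra kp K := j.toAlgebra
    haveI : IsScalarTower O kp K := .of_algebraMap_eq fun o => (RingHom.congr_fun hj o).symm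
    let bK : (C ⊗[O] R₀) →ₐ[O] K := { φ with commutes' := fun _ => rfl }
    let c₁ : kp ⊗[O] C →ₐ[kp] K := Algebra.TensorProduct.lift (Algebra.ofId kp K)
      (bK.comp (Algebra.TensorProduct.includeLeft : C →ₐ[O] (C ⊗[O] R₀))) fun _ _ => .all _ _
    let c₀ : C₀ →ₐ[kp] K := AlgHom.liftOfSurjective π hπs c₁
      fun a ha => ((hπn a ((RingHom.mem_ker).1 ha)).map c₁).eq_zero
    let r₁ : (kp ⊗[O] R₀) →ₐ[kp] K := Algebra.TensorProduct.lift (Algebra.ofId kp K)
      (bK.comp (Algebra.TensorProduct.includeRight : R₀ →ₐ[O] (C ⊗[O] R₀))) fun _ _ => .all _ _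
    let c' : ((kp ⊗[O] R₀) ⊗[kp] C₀) →ₐ[kp] K := Algebra.TensorProduct.lift r₁ c₀ fun _ _ => .all _ _
    refine ⟨c'.toRingHom, RingHom.ext fun b => ?_⟩
    show c' (bMap b) = φ b
    induction b using TensorProduct.induction_on with
    | zero => simp
    | add x y hx hy => simp only [map_add, hx, hy]
    | tmul c r =>
      have e1 : φ (c ⊗ₜ[O] r) = φ (c ⊗ₜ 1) * φ (1 ⊗ₜ r) := by
        rw [← map_mul, Algebra.TensorProduct.tmul_mul_tmul, mul_one, one_mul]
      rw [hb, map_mul, e1]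
      congr 1
      · show c' ((1 : (kp ⊗[O] R₀)) ⊗ₜ[kp] π ((1 : kp) ⊗ₜ[O] c)) = _
        refine (Algebra.TensorProduct.lift_tmul _ _ _ _ _).trans ?_
        rw [map_one, one_mul, AlgHom.liftOfSurjective_apply]
        refine (Algebra.TensorProduct.lift_tmul _ _ _ _ _).trans ?_
        rw [map_one, one_mul]
        rfl
      · show c' (((1 : kp) ⊗ₜ[O] r : (kp ⊗[O] R₀)) ⊗ₜ[kp] (1 : C₀)) = _
        refine (Algebra.TensorProduct.lift_tmul _ _ _ _ _).trans ?_
        rw [map_one, mul_one]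
        refine (Algebra.TensorProduct.lift_tmul _ _ _ _ _).trans ?_
        rw [map_one, one_mul]
        rfl
  exact ⟨((kp ⊗[O] R₀) ⊗[kp] C₀), inferInstance, algB, inferInstance, fac_good_of_perfect (A := (kp ⊗[O] R₀)) C₀,
    fun r => ((congrArg bMap rfl).trans (hRb r)).symm, hB, hext⟩

set_option maxHeartbeats 1000000 in
/-- The idempotents of geometric fibres over a base with one prime are trivial. -/
theorem idem_trivial_discrete {O C R₀ RY RX L : Type u} [CommRing O] [IsLocalRing O]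
    [Subsingleton (PrimeSpectrum O)] [CommRing C] [Algebra O C] [CommRing R₀] [Algebra O R₀]
    [CommRing RY] [CommRing RX] [HenselianLocalRing RY] [HenselianLocalRing RX]
    [IsSepClosed (IsLocalRing.ResidueField RY)] [IsSepClosed (IsLocalRing.ResidueField RX)]
    [Algebra R₀ RY] [Algebra (C ⊗[O] R₀) RX] [Algebra RY RX] [IsLocalHom (algebraMap RY RX)]
    (hcompat : ∀ r : R₀, algebraMap (C ⊗[O] R₀) RX (1 ⊗ₜ r) = algebraMap RY RX (algebraMap R₀ RY r))
    (hRY : Fac (IndAlg.Etale.Et R₀) RY) (hRX : Fac (IndAlg.Etale.Et (C ⊗[O] R₀)) RX)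
    [Field L] [Algebra RY L] (e : RX ⊗[RY] L) (he : IsIdempotentElem e) :
    e = 0 ∨ e = 1 := by
  classical
  let κ : Type u := IsLocalRing.ResidueField O
  let q : ℕ := ringExpChar κ
  haveI : ExpChar κ q := inferInstanceAs (ExpChar κ (ringExpChar κ))
  obtain ⟨kp, _, algk, hperf, hins⟩ := exists_perfection κ
  letI : Algebra O kp := ((algebraMap κ kp).comp (IsLocalRing.residue O)).toAlgebra
  have hkO : ∀ t : kp, ∃ (n : ℕ) (o : O), t ^ q ^ n = algebraMap O kp o := fun t => by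
    obtain ⟨n, y, hy⟩ := IsPurelyInseparable.pow_mem κ q t
    obtain ⟨o, rfl⟩ := IsLocalRing.residue_surjective y
    exact ⟨n, o, hy.symm⟩
  haveI : ExpChar kp q := expChar_of_injective_ringHom (f := algebraMap κ kp) (RingHom.injective _) q
  -- maps to fields
  have hfield : ∀ (K : Type u) [Field K] [IsAlgClosed K] (φ : O →+* K),
      ∃ j : kp →+* K, j.comp (algebraMap O kp) = φ := by
    intro K _ _ φ
    haveI := Groth.Agent.PurTrans.isLocalHom_of_field φ
    letI : Algebra κ K := (IsLocalRing.ResidueField.lift φ).toAlgebra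
    let j : kp →ₐ[κ] K := IsAlgClosed.lift
    exact ⟨j.toRingHom, RingHom.ext fun x =>
      (j.commutes (IsLocalRing.residue O x)).trans (IsLocalRing.ResidueField.lift_residue_apply φ x)⟩
  have hπn : ∀ a, Ideal.Quotient.mkₐ kp (nilradical (kp ⊗[O] C)) a = 0 → IsNilpotent a := fun a ha =>
    mem_nilradical.1 (Ideal.Quotient.eq_zero_iff_mem.1 ha)
  haveI : _root_.IsReduced ((kp ⊗[O] C) ⧸ nilradical (kp ⊗[O] C)) :=
    (Ideal.isRadical_iff_quotient_reduced _).1 (Ideal.radical_isRadical _)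
  obtain ⟨B', _, _, _, hgood, hsq, hB, hext⟩ := exists_radicial_model (R₀ := R₀)
    (Ideal.Quotient.mkₐ kp (nilradical (kp ⊗[O] C))) (Ideal.Quotient.mkₐ_surjective _ _) hπn q hkO hfield
  have hr₀ : ∀ o : O, algebraMap R₀ (kp ⊗[O] R₀) (algebraMap O R₀ o) =
      algebraMap kp (kp ⊗[O] R₀) (algebraMap O kp o) :=
    fun o => ((Algebra.TensorProduct.includeRight : R₀ →ₐ[O] kp ⊗[O] R₀).commutes o)
  have hrad : ∀ z : (kp ⊗[O] R₀), ∃ (n : ℕ) (r : R₀), z ^ q ^ n = algebraMap R₀ (kp ⊗[O] R₀) r := by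
    by_cases h : Subsingleton (kp ⊗[O] R₀)
    · exact fun z => ⟨0, 0, Subsingleton.elim _ _⟩
    haveI : Nontrivial (kp ⊗[O] R₀) := not_subsingleton_iff_nontrivial.1 h
    haveI : ExpChar (kp ⊗[O] R₀) q := expChar_of_injective_ringHom (f := algebraMap kp (kp ⊗[O] R₀)) (RingHom.injective _) q
    have hmem : ∀ z, z ∈ powImage (algebraMap R₀ (kp ⊗[O] R₀)) q := fun z => by
      induction z using TensorProduct.induction_on with
      | zero => exact Subring.zero_mem _
      | add x y hx hy => exact Subring.add_mem _ hx hy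
      | tmul t r =>
        have e3 : (t ⊗ₜ[O] r : (kp ⊗[O] R₀)) = algebraMap kp (kp ⊗[O] R₀) t * algebraMap R₀ (kp ⊗[O] R₀) r := by
          show _ = (t ⊗ₜ[O] (1 : R₀)) * ((1 : kp) ⊗ₜ[O] r)
          simp
        rw [e3]
        obtain ⟨n, o, ho⟩ := hkO t
        exact Subring.mul_mem _ ⟨n, algebraMap O R₀ o, by rw [← map_pow, ho, hr₀]⟩ ⟨0, r, by simp⟩
    exact fun z => by
      obtain ⟨n, r, hr⟩ := hmem z
      exact ⟨n, r, hr.symm⟩
  exact idem_trivial_of_radicial (B := C ⊗[O] R₀) (B' := B') (R₀ := R₀) (R₀' := kp ⊗[O] R₀)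
    hsq hcompat q
    (fun K _ φ => by
      haveI := Groth.Agent.PurTrans.isLocalHom_of_field (φ.comp (algebraMap O (C ⊗[O] R₀)))
      exact expChar_of_injective_ringHom
        (f := IsLocalRing.ResidueField.lift (φ.comp (algebraMap O (C ⊗[O] R₀)))) (RingHom.injective _) q)
    hrad hB hext hRY hRX hgood e he

end Groth.Agent.ZeroAcyc
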