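import Groth.Agent.ZeroAcyc.Idem
import Groth.Agent.StrictLift.Basic
import Groth.Agent.S1361
import Groth.Agent.AlgSpB.RedInduced
import Mathlib.AlgebraicGeometry.Geometrically.Reduced

/-!
Connectedness of the geometric fibres of maps of strictly henselian local rings which are limits of flat
finitely presented morphisms with geometrically reduced fibres.
-/

set_option autoImplicit false
set_option linter.style.haveILetI false
set_option backward.isDefEq.respectTransparency.types false

universe u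

open CategoryTheory CategoryTheory.Limits AlgebraicGeometry
open scoped TensorProduct
open Groth.Agent.IndAlg

namespace Groth.Agent.ZeroAcyc

theorem geometricallyReduced_etale_comp {X Y S : Scheme.{u}} (h : Y ⟶ X) (f : X ⟶ S) [Etale h]
    [GeometricallyReduced f] : GeometricallyReduced (h ≫ f) := by
  rw [GeometricallyReduced.eq_geometrically, geometrically_iff_of_isClosedUnderIsomorphisms]
  intro K _ y
  have : IsReduced (pullback f y) := pullback_of_geometrically GeometricallyReduced.geometrically_isReduced K y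
  have : IsReduced (pullback h (pullback.fst f y)) :=
    Groth.Agent.AlgSpB.isReduced_of_etale (pullback.snd h (pullback.fst f y))
  exact isReduced_of_isOpenImmersion (pullbackRightPullbackFstIso f y h).inv

/-- The stages: flat finitely presented algebras with geometrically reduced fibres. -/
def Good (R₀ : Type u) [CommRing R₀] : ∀ (E : Type u) [CommRing E] [Algebra R₀ E], Prop :=
  fun E _ _ => Algebra.FinitePresentation R₀ E ∧ Module.Flat R₀ E ∧
    GeometricallyReduced (Spec.map (CommRingCat.ofHom (algebraMap R₀ E)))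

theorem good_cancel {R₀ R₁ E : Type u} [CommRing R₀] [CommRing R₁] [CommRing E] [Algebra R₀ R₁]
    [Algebra.Etale R₀ R₁] [Algebra R₀ E] [Algebra R₁ E] [IsScalarTower R₀ R₁ E] (h : Good R₀ E) :
    Flat (Spec.map (CommRingCat.ofHom (algebraMap R₁ E))) ∧
      LocallyOfFinitePresentation (Spec.map (CommRingCat.ofHom (algebraMap R₁ E))) ∧
      GeometricallyReduced (Spec.map (CommRingCat.ofHom (algebraMap R₁ E))) := by
  obtain ⟨h1, h2, h3⟩ := h
  let q := Spec.map (CommRingCat.ofHom (algebraMap R₁ E))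
  let r := Spec.map (CommRingCat.ofHom (algebraMap R₀ R₁))
  haveI : Etale r := (HasRingHomProperty.Spec_iff (P := @Etale)).2 (RingHom.etale_algebraMap.2 inferInstance)
  have hqr : q ≫ r = Spec.map (CommRingCat.ofHom (algebraMap R₀ E)) := by
    simp only [q, r, ← Spec.map_comp]
    congr 1
    ext x
    exact (IsScalarTower.algebraMap_apply R₀ R₁ E x).symm
  haveI : Flat (q ≫ r) := by
    rw [hqr, HasRingHomProperty.Spec_iff (P := @Flat)]
    exact RingHom.flat_algebraMap_iff.2 h2
  haveI : LocallyOfFinitePresentation (q ≫ r) := by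
    rw [hqr, HasRingHomProperty.Spec_iff (P := @LocallyOfFinitePresentation)]
    exact RingHom.finitePresentation_algebraMap.2 h1
  haveI : GeometricallyReduced (q ≫ r) := hqr ▸ h3
  let Γ : Spec (CommRingCat.of E) ⟶ pullback (q ≫ r) r := pullback.lift (𝟙 _) q (Category.id_comp _)
  haveI : Etale (Γ ≫ pullback.fst (q ≫ r) r) := by rw [pullback.lift_fst]; infer_instance
  haveI : Etale (pullback.fst (q ≫ r) r) := MorphismProperty.pullback_fst _ _ ‹Etale r›
  haveI : Etale Γ := Etale.of_comp Γ (pullback.fst (q ≫ r) r)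
  have hΓ : Γ ≫ pullback.snd (q ≫ r) r = q := pullback.lift_snd _ _ _
  haveI : Flat (pullback.snd (q ≫ r) r) := MorphismProperty.pullback_snd _ _ ‹Flat (q ≫ r)›
  haveI : LocallyOfFinitePresentation (pullback.snd (q ≫ r) r) :=
    MorphismProperty.pullback_snd _ _ ‹LocallyOfFinitePresentation (q ≫ r)›
  have hq : Spec.map (CommRingCat.ofHom (algebraMap R₁ E)) = Γ ≫ pullback.snd (q ≫ r) r := hΓ.symm
  refine ⟨hq.symm ▸ inferInstance, hq.symm ▸ inferInstance, ?_⟩
  rw [show Spec.map (CommRingCat.ofHom (algebraMap R₁ E)) = Γ ≫ pullback.snd (q ≫ r) r from hΓ.symm]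
  exact geometricallyReduced_etale_comp Γ _

set_option maxHeartbeats 1000000 in
/-- The idempotents of a geometric fibre are trivial. -/
theorem idem_trivial {R₀ RY RX L : Type u} [CommRing R₀] [CommRing RY] [CommRing RX]
    [HenselianLocalRing RY] [HenselianLocalRing RX]
    [IsSepClosed (IsLocalRing.ResidueField RY)] [IsSepClosed (IsLocalRing.ResidueField RX)]
    [Algebra R₀ RY] [Algebra R₀ RX] [Algebra RY RX] [IsScalarTower R₀ RY RX]
    [IsLocalHom (algebraMap RY RX)] (hRY : Fac (IndAlg.Etale.Et R₀) RY) (hRX : Fac (Good R₀) RX)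
    [Field L] [Algebra RY L] (e : RX ⊗[RY] L) (he : IsIdempotentElem e) : e = 0 ∨ e = 1 := by
  classical
  letI : Algebra R₀ L := ((algebraMap RY L).comp (algebraMap R₀ RY)).toAlgebra
  haveI : IsScalarTower R₀ RY L := .of_algebraMap_eq fun _ => rfl
  obtain ⟨e₀, s, rfl, hs⟩ := exists_finset_rel R₀ RY RX L e he
  obtain ⟨R₁, _, _, hR₁, v₁, w₁, hvw₁⟩ := hRY (MvPolynomial {x // x ∈ s} R₀) inferInstance
    (MvPolynomial.aeval fun x : {x // x ∈ s} => (x : RY))
  haveI : Algebra.Etale R₀ R₁ := hR₁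
  letI : Algebra R₁ RY := w₁.toRingHom.toAlgebra
  letI : Algebra R₁ RX := ((algebraMap RY RX).comp w₁.toRingHom).toAlgebra
  letI : Algebra R₁ L := ((algebraMap RY L).comp w₁.toRingHom).toAlgebra
  haveI : IsScalarTower R₁ RY RX := .of_algebraMap_eq fun _ => rfl
  haveI : IsScalarTower R₁ RY L := .of_algebraMap_eq fun _ => rfl
  haveI : IsScalarTower R₀ R₁ RX := .of_algebraMap_eq fun x => by
    show _ = algebraMap RY RX (w₁ (algebraMap R₀ R₁ x))
    rw [w₁.commutes, ← IsScalarTower.algebraMap_apply]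
  haveI : IsScalarTower R₀ R₁ L := .of_algebraMap_eq fun x => by
    show _ = algebraMap RY L (w₁ (algebraMap R₀ R₁ x))
    rw [w₁.commutes]
    rfl
  let e₁ : RX ⊗[R₁] L := changeBase R₀ R₁ RX L e₀
  have he₁ : IsIdempotentElem e₁ := by
    have h0 : changeBase R₀ R₁ RX L (e₀ * e₀ - e₀) = 0 := by
      refine (RingHom.mem_ker (f := changeBase R₀ R₁ RX L)).1 ((Ideal.span_le.2 ?_) hs)
      rintro _ ⟨r, hr, rfl⟩
      have hw : w₁ (v₁ (MvPolynomial.X ⟨r, hr⟩)) = r := by
        rw [← AlgHom.comp_apply, hvw₁, MvPolynomial.aeval_X]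
      rw [SetLike.mem_coe, RingHom.mem_ker, rel, map_sub, changeBase_tmul, changeBase_tmul, sub_eq_zero,
        show algebraMap RY RX r = algebraMap R₁ RX (v₁ (MvPolynomial.X ⟨r, hr⟩)) from
          (congrArg (algebraMap RY RX) hw).symm,
        show algebraMap RY L r = algebraMap R₁ L (v₁ (MvPolynomial.X ⟨r, hr⟩)) from
          (congrArg (algebraMap RY L) hw).symm,
        Algebra.algebraMap_eq_smul_one, Algebra.algebraMap_eq_smul_one, TensorProduct.smul_tmul]
    rwa [map_sub, map_mul, sub_eq_zero] at h0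
  have hcb : ∀ z, changeBase R₁ RY RX L (changeBase R₀ R₁ RX L z) = changeBase R₀ RY RX L z := by
    intro z
    induction z using TensorProduct.induction_on with
    | zero => simp
    | add x y hx hy => simp [hx, hy]
    | tmul x l => simp [changeBase_tmul]
  obtain ⟨P, _, _, hP, wP, eP, heP, hwP⟩ := exists_fp_idem e₁ he₁
  letI : Algebra R₀ P := ((algebraMap R₁ P).comp (algebraMap R₀ R₁)).toAlgebra
  haveI : IsScalarTower R₀ R₁ P := .of_algebraMap_eq fun _ => rfl
  haveI : Algebra.FinitePresentation R₀ P := Algebra.FinitePresentation.trans R₀ R₁ P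
  obtain ⟨E, _, _, hE, vE, wE, hvwE⟩ := hRX P inferInstance (wP.restrictScalars R₀)
  letI : Algebra R₁ E := (vE.toRingHom.comp (algebraMap R₁ P)).toAlgebra
  haveI : IsScalarTower R₀ R₁ E := .of_algebraMap_eq fun x => (vE.commutes x).symm
  have hwE : ∀ x, wE (algebraMap R₁ E x) = algebraMap R₁ RX x := fun x => by
    show wE (vE (algebraMap R₁ P x)) = _
    rw [← AlgHom.comp_apply, hvwE]
    exact wP.commutes x
  let wE' : E →ₐ[R₁] RX := { wE.toRingHom with commutes' := hwE }
  let vE' : P →ₐ[R₁] E := { vE.toRingHom with commutes' := fun _ => rfl }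
  let q : Spec (CommRingCat.of E) ⟶ Spec (CommRingCat.of R₁) :=
    Spec.map (CommRingCat.ofHom (algebraMap R₁ E))
  obtain ⟨hfl, hfp, hgr⟩ := good_cancel (R₁ := R₁) hE
  haveI : Flat q := hfl
  haveI : LocallyOfFinitePresentation q := hfp
  haveI : GeometricallyReduced q := hgr
  let σM : Spec (CommRingCat.of RX) ⟶ Spec (CommRingCat.of E) := Spec.map (CommRingCat.ofHom wE.toRingHom)
  obtain ⟨X', S', a, b, c, ha, ⟨x', hx'⟩, hc, hac, -, -, -, -, hgc, -⟩ :=
    Groth.Agent.S1361.result q (σM (IsLocalRing.closedPoint RX))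
  haveI := ha
  haveI := hc
  haveI := hgc
  -- a geometric point of `X'`
  let πa := pullback.snd a (StrictLift.closedPt RX ≫ σM)
  haveI : Etale πa := MorphismProperty.pullback_snd _ _ ha
  let o : Spec (CommRingCat.of (IsLocalRing.ResidueField RX)) := default
  obtain ⟨p₀, -, -⟩ := Scheme.Pullback.exists_preimage_pullback (f := a) (g := StrictLift.closedPt RX ≫ σM)
    x' o (by rw [hx', Scheme.Hom.comp_apply, StrictLift.closedPt_apply])
  obtain ⟨la, hla, -⟩ := Scheme.exists_fac_of_etale_of_isSepClosed πa (𝟙 _) p₀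
    (Subsingleton.elim (α := Spec (CommRingCat.of (IsLocalRing.ResidueField RX))) _ _)
  let φX : Spec (CommRingCat.of (IsLocalRing.ResidueField RX)) ⟶ X' := la ≫ pullback.fst _ _
  have hφX : φX ≫ a = StrictLift.closedPt RX ≫ σM := by
    rw [Category.assoc, pullback.condition, reassoc_of% hla]
  obtain ⟨sX, hsX, hsX'⟩ := StrictLift.exists_lift a σM φX hφX
  -- a compatible point of `S'`
  let ψ : Spec (CommRingCat.of RX) ⟶ Spec (CommRingCat.of RY) :=
    Spec.map (CommRingCat.ofHom (algebraMap RY RX))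
  let σY : Spec (CommRingCat.of RY) ⟶ Spec (CommRingCat.of R₁) :=
    Spec.map (CommRingCat.ofHom (algebraMap R₁ RY))
  have hψσ : σM ≫ q = ψ ≫ σY := by
    simp only [σM, q, ψ, σY, ← Spec.map_comp]
    congr 1
    refine CommRingCat.hom_ext (RingHom.ext fun x => ?_)
    exact (hwE x).trans rfl
  let ι : Spec (CommRingCat.of (IsLocalRing.ResidueField RX)) ⟶
      Spec (CommRingCat.of (IsLocalRing.ResidueField RY)) :=
    Spec.map (CommRingCat.ofHom (IsLocalRing.ResidueField.map (algebraMap RY RX)))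
  have hι : ι ≫ StrictLift.closedPt RY = StrictLift.closedPt RX ≫ ψ := by
    simp only [ι, ψ, ← Spec.map_comp]
    rfl
  let πc := pullback.snd c (StrictLift.closedPt RY ≫ σY)
  haveI : Etale πc := MorphismProperty.pullback_snd _ _ hc
  let ζ : Spec (CommRingCat.of (IsLocalRing.ResidueField RX)) ⟶ pullback c (StrictLift.closedPt RY ≫ σY) :=
    pullback.lift (φX ≫ b) ι (by
      rw [Category.assoc, ← hac, ← Category.assoc, hφX, Category.assoc, hψσ, reassoc_of% hι])
  obtain ⟨lc, hlc, hlco⟩ := Scheme.exists_fac_of_etale_of_isSepClosed πc (𝟙 _) (ζ o)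
    (Subsingleton.elim (α := Spec (CommRingCat.of (IsLocalRing.ResidueField RY))) _ _)
  haveI : IsOpenImmersion lc := EtaleSite.isOpenImmersion_of_section πc lc hlc
  have hrζ : Set.range ζ ⊆ Set.range lc := by
    rintro _ ⟨o', rfl⟩
    rw [Subsingleton.elim o' o]
    exact ⟨_, hlco⟩
  have hζl : ι ≫ lc = ζ := by
    have h1 := IsOpenImmersion.lift_fac lc ζ hrζ
    have h2 : IsOpenImmersion.lift lc ζ hrζ = ι := by
      have h3 := congrArg (· ≫ πc) h1
      simp only [Category.assoc, hlc] at h3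
      exact (Category.comp_id _).symm.trans (h3.trans (pullback.lift_snd _ _ _))
    rw [← h2, h1]
  let φY : Spec (CommRingCat.of (IsLocalRing.ResidueField RY)) ⟶ S' := lc ≫ pullback.fst _ _
  obtain ⟨sY, hsY, hsY'⟩ := StrictLift.exists_lift c σY φY (by
    rw [Category.assoc, pullback.condition, reassoc_of% hlc])
  have hsXY : sX ≫ b = ψ ≫ sY := by
    refine StrictLift.eq_of_closedPt c _ _ ?_ ?_
    · rw [Category.assoc, ← hac, reassoc_of% hsX, hψσ, Category.assoc, hsY]
    · refine (Category.assoc _ _ _).symm.trans ((congrArg (· ≫ b) hsX').trans ?_)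
      refine (pullback.lift_fst _ _ _ : ζ ≫ pullback.fst c _ = φX ≫ b).symm.trans ?_
      refine (congrArg (· ≫ pullback.fst c _) hζl.symm).trans ((Category.assoc _ _ _).trans ?_)
      refine (congrArg (ι ≫ ·) (show lc ≫ pullback.fst c _ = StrictLift.closedPt RY ≫ sY from hsY'.symm)).trans ?_
      exact (Category.assoc _ _ _).symm.trans ((congrArg (· ≫ sY) hι).trans (Category.assoc _ _ _))
  -- the fibre
  let η : Spec (CommRingCat.of L) ⟶ Spec (CommRingCat.of RY) := Spec.map (CommRingCat.ofHom (algebraMap RY L))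
  let F : Scheme.{u} := pullback b (η ≫ sY)
  haveI : ConnectedSpace ↥F :=
    GeometricallyConnected.geometrically_connectedSpace _ _ _ (IsPullback.of_hasPullback b (η ≫ sY))
  let qL : Spec (CommRingCat.of L) ⟶ Spec (CommRingCat.of R₁) := Spec.map (CommRingCat.ofHom (algebraMap R₁ L))
  have hηq : η ≫ σY = qL := by
    simp only [η, σY, qL, ← Spec.map_comp]
    rfl
  let zF : F ⟶ pullback q qL := pullback.lift (pullback.fst _ _ ≫ a) (pullback.snd _ _) (by
    rw [Category.assoc, hac, pullback.condition_assoc, Category.assoc, hsY, hηq])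
  let eE : E ⊗[R₁] L := Algebra.TensorProduct.map vE' (AlgHom.id R₁ L) eP
  have heE : IsIdempotentElem eE := heP.map _
  let zE : F ⟶ Spec (CommRingCat.of (E ⊗[R₁] L)) := zF ≫ (pullbackSpecIso R₁ E L).hom
  let zR : Spec (CommRingCat.of (RX ⊗[RY] L)) ⟶ F := pullback.lift
    (Spec.map (CommRingCat.ofHom Algebra.TensorProduct.includeLeftRingHom) ≫ sX)
    (Spec.map (CommRingCat.ofHom (Algebra.TensorProduct.includeRight : L →ₐ[RY] RX ⊗[RY] L).toRingHom)) (by
      rw [Category.assoc, hsXY]
      simp only [ψ, η, ← Spec.map_comp_assoc]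
      congr 2
      refine CommRingCat.hom_ext (RingHom.ext fun x => ?_)
      exact ((Algebra.TensorProduct.includeRight : L →ₐ[RY] RX ⊗[RY] L).commutes x).symm)
  let g : E ⊗[R₁] L →ₐ[R₁] RX ⊗[RY] L :=
    (changeBase R₁ RY RX L).comp (Algebra.TensorProduct.map wE' (AlgHom.id R₁ L))
  have hg : zR ≫ zE = Spec.map (CommRingCat.ofHom g.toRingHom) := by
    rw [← cancel_mono (pullbackSpecIso R₁ E L).inv]
    simp only [zE, Category.assoc, Iso.hom_inv_id, Category.comp_id]
    apply pullback.hom_ext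
    · rw [Category.assoc, Category.assoc, pullbackSpecIso_inv_fst, ← Spec.map_comp]
      show zR ≫ zF ≫ pullback.fst q qL = _
      rw [pullback.lift_fst, ← Category.assoc, pullback.lift_fst, Category.assoc, hsX]
      simp only [σM, ← Spec.map_comp]
      congr 1
      refine CommRingCat.hom_ext (RingHom.ext fun x => ?_)
      show wE x ⊗ₜ[RY] (1 : L) = g (x ⊗ₜ[R₁] 1)
      exact (changeBase_tmul R₁ RY RX L _ _).symm
    · rw [Category.assoc, Category.assoc, pullbackSpecIso_inv_snd, ← Spec.map_comp]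
      show zR ≫ zF ≫ pullback.snd q qL = _
      rw [pullback.lift_snd, pullback.lift_snd]
      congr 1
      refine CommRingCat.hom_ext (RingHom.ext fun x => ?_)
      show (1 : RX) ⊗ₜ[RY] x = g (1 ⊗ₜ[R₁] x)
      refine Eq.trans ?_ (congrArg (changeBase R₁ RY RX L)
        (show (1 : RX) ⊗ₜ[R₁] x = wE' 1 ⊗ₜ[R₁] x by rw [map_one]))
      exact (changeBase_tmul R₁ RY RX L _ _).symm
  have hge : g eE = changeBase R₀ RY RX L e₀ := by
    show changeBase R₁ RY RX L (Algebra.TensorProduct.map wE' (AlgHom.id R₁ L)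
      (Algebra.TensorProduct.map vE' (AlgHom.id R₁ L) eP)) = _
    rw [← AlgHom.comp_apply (Algebra.TensorProduct.map wE' _), ← Algebra.TensorProduct.map_comp,
      show wE'.comp vE' = wP from AlgHom.ext fun x => congr($hvwE x), AlgHom.id_comp, hwP, hcb]
  rw [← hge]
  have hclopen : IsClopen (zE ⁻¹' (PrimeSpectrum.basicOpen eE : Set (PrimeSpectrum (E ⊗[R₁] L)))) :=
    (PrimeSpectrum.isClopen_iff.2 ⟨eE, heE, rfl⟩).preimage zE.continuous
  have hpre : (PrimeSpectrum.basicOpen (g eE) : Set (PrimeSpectrum (RX ⊗[RY] L))) =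
      zR ⁻¹' (zE ⁻¹' (PrimeSpectrum.basicOpen eE : Set (PrimeSpectrum (E ⊗[R₁] L)))) := by
    rw [← Set.preimage_comp, ← TopCat.coe_comp, ← Scheme.Hom.comp_base, hg]
    rfl
  have hgid : IsIdempotentElem (g eE) := heE.map g
  rcases isClopen_iff.1 hclopen with h | h
  · left
    rw [h, Set.preimage_empty] at hpre
    refine hgid.eq_zero_of_isNilpotent ((PrimeSpectrum.basicOpen_eq_bot_iff (g eE)).1 ?_)
    exact TopologicalSpace.Opens.ext hpre
  · right
    rw [h, Set.preimage_univ] at hpre
    have hu : IsUnit (g eE) := by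
      by_contra hnu
      obtain ⟨m, hm, hmem⟩ := exists_max_ideal_of_mem_nonunits hnu
      exact (PrimeSpectrum.mem_basicOpen (g eE) ⟨m, hm.isPrime⟩).1 (hpre.ge (Set.mem_univ _)) hmem
    exact (IsIdempotentElem.iff_eq_one_of_isUnit hu).1 hgid

end Groth.Agent.ZeroAcyc
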