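import Groth.Agent.IndAlg.Etale
import Mathlib.RingTheory.TensorProduct.Quotient
import Mathlib.RingTheory.Spectrum.Prime.Topology
import Mathlib.LinearAlgebra.TensorProduct.RightExactness
import Mathlib.Algebra.MvPolynomial.Rename

/-!
Idempotents in tensor products with ind-finitely presented algebras.
-/

set_option autoImplicit false
set_option linter.style.haveILetI false

universe u

open scoped TensorProduct
open Groth.Agent.IndAlg

namespace Groth.Agent.ZeroAcyc

section Step1

variable (R₀ RY RX L : Type u) [CommRing R₀] [CommRing RY] [CommRing RX] [CommRing L]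
  [Algebra R₀ RY] [Algebra R₀ RX] [Algebra RY RX] [IsScalarTower R₀ RY RX]
  [Algebra R₀ L] [Algebra RY L] [IsScalarTower R₀ RY L]

/-- The change of base map. -/
noncomputable def changeBase : RX ⊗[R₀] L →ₐ[R₀] RX ⊗[RY] L :=
  Algebra.TensorProduct.lift (IsScalarTower.toAlgHom R₀ RX (RX ⊗[RY] L))
    ((Algebra.TensorProduct.includeRight : L →ₐ[RY] RX ⊗[RY] L).restrictScalars R₀) fun _ _ => .all _ _

theorem changeBase_tmul (x : RX) (l : L) : changeBase R₀ RY RX L (x ⊗ₜ l) = x ⊗ₜ l := by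
  simp [changeBase, Algebra.TensorProduct.algebraMap_apply]

/-- The relation attached to an element of the middle ring. -/
noncomputable def rel (r : RY) : RX ⊗[R₀] L := algebraMap RY RX r ⊗ₜ 1 - 1 ⊗ₜ algebraMap RY L r

theorem changeBase_ker :
    RingHom.ker (changeBase R₀ RY RX L) ≤ Ideal.span (Set.range (rel R₀ RY RX L)) := by
  let I := Ideal.span (Set.range (rel R₀ RY RX L))
  let a : RX →+* (RX ⊗[R₀] L) ⧸ I := (Ideal.Quotient.mk I).comp Algebra.TensorProduct.includeLeftRingHom
  let b : L →+* (RX ⊗[R₀] L) ⧸ I :=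
    (Ideal.Quotient.mk I).comp (Algebra.TensorProduct.includeRight : L →ₐ[R₀] RX ⊗[R₀] L).toRingHom
  let a' : RX →ₐ[RY] (RX ⊗[R₀] L) ⧸ I :=
    (Ideal.Quotient.mkₐ RY I).comp Algebra.TensorProduct.includeLeft
  have hb : ∀ r, b (algebraMap RY L r) = a (algebraMap RY RX r) := fun r => by
    show Ideal.Quotient.mk I (1 ⊗ₜ algebraMap RY L r) = Ideal.Quotient.mk I (algebraMap RY RX r ⊗ₜ 1)
    rw [eq_comm, Ideal.Quotient.eq]
    exact Ideal.subset_span ⟨r, rfl⟩
  let b' : L →ₐ[RY] (RX ⊗[R₀] L) ⧸ I := { b with commutes' := hb }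
  let inv : RX ⊗[RY] L →ₐ[RY] (RX ⊗[R₀] L) ⧸ I := Algebra.TensorProduct.lift a' b' fun _ _ => .all _ _
  have h : ∀ z, inv (changeBase R₀ RY RX L z) = Ideal.Quotient.mk I z := by
    intro z
    induction z using TensorProduct.induction_on with
    | zero => simp
    | add x y hx hy => simp [hx, hy]
    | tmul x l =>
      rw [changeBase_tmul]
      show Ideal.Quotient.mk I (x ⊗ₜ 1) * Ideal.Quotient.mk I (1 ⊗ₜ l) = _
      rw [← map_mul, Algebra.TensorProduct.tmul_mul_tmul, mul_one, one_mul]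
  intro z hz
  rw [← Ideal.Quotient.eq_zero_iff_mem, ← h, (RingHom.mem_ker).1 hz, map_zero]

theorem changeBase_surjective : Function.Surjective (changeBase R₀ RY RX L) := by
  intro z
  induction z using TensorProduct.induction_on with
  | zero => exact ⟨0, map_zero _⟩
  | add x y hx hy =>
    obtain ⟨x, rfl⟩ := hx
    obtain ⟨y, rfl⟩ := hy
    exact ⟨x + y, map_add _ _ _⟩
  | tmul x l => exact ⟨x ⊗ₜ l, changeBase_tmul R₀ RY RX L x l⟩

/-- An idempotent over the middle ring lifts to a congruence modulo finitely many relations. -/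
theorem exists_finset_rel (e : RX ⊗[RY] L) (he : IsIdempotentElem e) :
    ∃ (e₀ : RX ⊗[R₀] L) (s : Finset RY), changeBase R₀ RY RX L e₀ = e ∧
      e₀ * e₀ - e₀ ∈ Ideal.span (rel R₀ RY RX L '' s) := by
  classical
  obtain ⟨e₀, rfl⟩ := changeBase_surjective R₀ RY RX L e
  have h : e₀ * e₀ - e₀ ∈ Ideal.span (Set.range (rel R₀ RY RX L)) :=
    changeBase_ker R₀ RY RX L (by rw [RingHom.mem_ker, map_sub, map_mul, he.eq, sub_self])
  obtain ⟨t, ht, hmem⟩ := Submodule.mem_span_finite_of_mem_span h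
  choose r hr using fun x : t => ht x.2
  refine ⟨e₀, Finset.univ.image r, rfl, Ideal.span_mono ?_ hmem⟩
  intro x hx
  exact ⟨r ⟨x, hx⟩, by simp, hr ⟨x, hx⟩⟩

end Step1

/-- An idempotent descends to a finitely presented algebra. -/
theorem exists_fp_idem {R₁ RX L : Type u} [CommRing R₁] [CommRing RX] [Algebra R₁ RX] [CommRing L]
    [Algebra R₁ L] (e₁ : RX ⊗[R₁] L) (he : IsIdempotentElem e₁) :
    ∃ (P : Type u) (_ : CommRing P) (_ : Algebra R₁ P) (_ : Algebra.FinitePresentation R₁ P)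
      (w : P →ₐ[R₁] RX) (eP : P ⊗[R₁] L), IsIdempotentElem eP ∧
      Algebra.TensorProduct.map w (AlgHom.id R₁ L) eP = e₁ := by
  classical
  let π : MvPolynomial RX R₁ →ₐ[R₁] RX := MvPolynomial.aeval id
  have hπ : Function.Surjective π := fun x => ⟨MvPolynomial.X x, by simp [π]⟩
  let πL := Algebra.TensorProduct.map π (AlgHom.id R₁ L)
  have hπL : Function.Surjective πL := TensorProduct.map_surjective hπ Function.surjective_id
  obtain ⟨et, het⟩ := hπL e₁
  have hmem : et * et - et ∈ RingHom.ker πL := by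
    rw [RingHom.mem_ker, map_sub, map_mul, het, he.eq, sub_self]
  rw [show RingHom.ker πL = _ from Algebra.TensorProduct.rTensor_ker _ hπ, Ideal.map] at hmem
  obtain ⟨t, ht, hmem⟩ := Submodule.mem_span_finite_of_mem_span hmem
  choose k hk using fun x : t => ht x.2
  have hvar : ∀ et : MvPolynomial RX R₁ ⊗[R₁] L, ∃ (F : Finset RX), et ∈ Set.range (Algebra.TensorProduct.map
      (MvPolynomial.rename (fun x : {x // x ∈ F} => (x : RX)) : MvPolynomial {x // x ∈ F} R₁ →ₐ[R₁] _)
      (AlgHom.id R₁ L)) := by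
    intro et
    induction et using TensorProduct.induction_on with
    | zero => exact ⟨∅, 0, map_zero _⟩
    | tmul p l =>
      obtain ⟨F, q, rfl⟩ := MvPolynomial.exists_finset_rename p
      exact ⟨F, q ⊗ₜ l, by simp⟩
    | add x y hx hy =>
      obtain ⟨F, x', rfl⟩ := hx
      obtain ⟨G, y', rfl⟩ := hy
      have hm : ∀ {F' : Finset RX} (h : F' ⊆ F ∪ G) (z : MvPolynomial {x // x ∈ F'} R₁ ⊗[R₁] L),
          ∃ z', Algebra.TensorProduct.map
            (MvPolynomial.rename (fun x : {x // x ∈ F ∪ G} => (x : RX)) :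
              MvPolynomial {x // x ∈ F ∪ G} R₁ →ₐ[R₁] _) (AlgHom.id R₁ L) z' =
            Algebra.TensorProduct.map (MvPolynomial.rename (fun x : {x // x ∈ F'} => (x : RX)) :
              MvPolynomial {x // x ∈ F'} R₁ →ₐ[R₁] _) (AlgHom.id R₁ L) z := fun {F'} h z => by
        refine ⟨Algebra.TensorProduct.map (MvPolynomial.rename
          (fun x : {x // x ∈ F'} => (⟨x, h x.2⟩ : {x // x ∈ F ∪ G}))) (AlgHom.id R₁ L) z, ?_⟩
        induction z using TensorProduct.induction_on with
        | zero => simp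
        | tmul p l => simp [MvPolynomial.rename_rename, Function.comp_def]
        | add x y hx hy => simp [hx, hy]
      obtain ⟨a, ha⟩ := hm Finset.subset_union_left x'
      obtain ⟨b, hb⟩ := hm Finset.subset_union_right y'
      exact ⟨F ∪ G, a + b, by rw [map_add, ha, hb]⟩
  obtain ⟨F₀, hF₀⟩ := hvar et
  let F : Finset RX := F₀ ∪ Finset.univ.biUnion fun x => (k x).vars
  let ι : MvPolynomial {x // x ∈ F} R₁ →ₐ[R₁] MvPolynomial RX R₁ :=
    MvPolynomial.rename (fun x : {x // x ∈ F} => (x : RX))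
  let r : MvPolynomial RX R₁ →ₐ[R₁] MvPolynomial {x // x ∈ F} R₁ :=
    MvPolynomial.killCompl (f := fun x : {x // x ∈ F} => (x : RX)) Subtype.val_injective
  have hrι : ∀ q, r (ι q) = q := MvPolynomial.killCompl_rename_app Subtype.val_injective
  have hkι : ∀ x, ι (r (k x)) = k x := by
    intro x
    obtain ⟨q, hq⟩ := MvPolynomial.exists_rename_eq_of_vars_subset_range (k x)
      (fun y : {y // y ∈ F} => (y : RX)) Subtype.val_injective fun y hy =>
        ⟨⟨y, Finset.mem_union_right _ (Finset.mem_biUnion.2 ⟨x, Finset.mem_univ _, hy⟩)⟩, rfl⟩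
    rw [← hq, hrι]
  let K : Finset (MvPolynomial {x // x ∈ F} R₁) := Finset.univ.image fun x => r (k x)
  let J : Ideal (MvPolynomial {x // x ∈ F} R₁) := Ideal.span K
  let w₀ : MvPolynomial {x // x ∈ F} R₁ →ₐ[R₁] RX := π.comp ι
  have hJ : ∀ a ∈ J, w₀ a = 0 := fun a ha => by
    refine (RingHom.mem_ker (f := w₀)).1 ((Ideal.span_le.2 ?_) ha)
    intro z hz
    obtain ⟨x, -, rfl⟩ := Finset.mem_image.1 hz
    show π (ι (r (k x))) = 0
    rw [hkι]
    exact (hk x).1
  let q₀ : MvPolynomial {x // x ∈ F} R₁ →ₐ[R₁] MvPolynomial {x // x ∈ F} R₁ ⧸ J := Ideal.Quotient.mkₐ R₁ J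
  let ρ := Algebra.TensorProduct.map (q₀.comp r) (AlgHom.id R₁ L)
  refine ⟨MvPolynomial {x // x ∈ F} R₁ ⧸ J, inferInstance, inferInstance,
    Algebra.FinitePresentation.quotient ⟨K, rfl⟩, Ideal.Quotient.liftₐ J w₀ hJ, ρ et, ?_, ?_⟩
  · have h0 : ρ (et * et - et) = 0 := by
      refine (RingHom.mem_ker (f := ρ)).1 ((Ideal.span_le.2 ?_) hmem)
      intro z hz
      rw [SetLike.mem_coe, RingHom.mem_ker, show z = _ from (hk ⟨z, hz⟩).2.symm]
      show ρ (k ⟨z, hz⟩ ⊗ₜ 1) = 0
      have h2 : q₀ (r (k ⟨z, hz⟩)) = 0 :=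
        Ideal.Quotient.eq_zero_iff_mem.2 (Ideal.subset_span (by simp [K]))
      simp [ρ, h2]
    rwa [map_sub, map_mul, sub_eq_zero] at h0
  · rw [← het]
    obtain ⟨q, rfl⟩ := hF₀
    suffices hgen : ∀ q : MvPolynomial {x // x ∈ F₀} R₁ ⊗[R₁] L,
        Algebra.TensorProduct.map (Ideal.Quotient.liftₐ J w₀ hJ) (AlgHom.id R₁ L)
          (ρ (Algebra.TensorProduct.map (MvPolynomial.rename (fun x : {x // x ∈ F₀} => (x : RX))) (AlgHom.id R₁ L) q)) =
        πL (Algebra.TensorProduct.map (MvPolynomial.rename (fun x : {x // x ∈ F₀} => (x : RX))) (AlgHom.id R₁ L) q) by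
      exact hgen q
    intro q
    induction q using TensorProduct.induction_on with
    | zero => simp
    | add x y hx hy => simp only [map_add, hx, hy]
    | tmul p l =>
      have hp : ι (r (MvPolynomial.rename (fun x : {x // x ∈ F₀} => (x : RX)) p)) =
          MvPolynomial.rename (fun x : {x // x ∈ F₀} => (x : RX)) p := by
        have e : MvPolynomial.rename (fun x : {x // x ∈ F₀} => (x : RX)) p =
            ι (MvPolynomial.rename (fun x : {x // x ∈ F₀} =>
              (⟨x, Finset.mem_union_left _ x.2⟩ : {x // x ∈ F})) p) := by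
          simp [ι, MvPolynomial.rename_rename, Function.comp_def]
        rw [e, hrι]
      simp only [ρ, πL, Algebra.TensorProduct.map_tmul, AlgHom.coe_id, id_eq, AlgHom.comp_apply]
      exact congrArg (· ⊗ₜ[R₁] l) (show π (ι (r _)) = π _ from congrArg π hp)

/-- A ring whose idempotents are trivial has connected spectrum. -/
theorem connectedSpace_of_idem {A : Type u} [CommRing A] [Nontrivial A]
    (h : ∀ e : A, IsIdempotentElem e → e = 0 ∨ e = 1) : ConnectedSpace (PrimeSpectrum A) := by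
  haveI : Nonempty (PrimeSpectrum A) := inferInstance
  haveI : PreconnectedSpace (PrimeSpectrum A) := preconnectedSpace_iff_clopen.2 fun s hs => by
    obtain ⟨e, he, rfl⟩ := PrimeSpectrum.isClopen_iff.1 hs
    rcases h e he with rfl | rfl
    · left; simp
    · right; simp
  exact ⟨inferInstance⟩

end Groth.Agent.ZeroAcyc
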