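import Groth.Agent.ZeroAcyc.NoethStage
import Groth.Agent.IndAlg.Etale
import Groth.Agent.S9404
import Groth.Agent.Hensel.CplTensor

/-!
Geometric fibres of maps of strictly henselian local rings, flat with reduced geometric fibres over a
noetherian ring.
-/

set_option autoImplicit false
set_option linter.style.haveILetI false
set_option backward.isDefEq.respectTransparency.types false

universe u

open CategoryTheory CategoryTheory.Limits AlgebraicGeometry
open scoped TensorProduct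
open Groth.Agent.IndAlg

namespace Groth.Agent.ZeroAcyc

/-- Tensors with integral domains over strictly henselian rings have no idempotents. -/
theorem idem_trivial_integral {RY RX Rt : Type u} [CommRing RY] [CommRing RX] [HenselianLocalRing RY]
    [HenselianLocalRing RX] [IsSepClosed (IsLocalRing.ResidueField RY)] [Algebra RY RX]
    [IsLocalHom (algebraMap RY RX)] [CommRing Rt] [IsDomain Rt] [IsLocalRing Rt] [Algebra RY Rt]
    [Algebra.IsIntegral RY Rt] (t : RX ⊗[RY] Rt) (ht : IsIdempotentElem t) : t = 0 ∨ t = 1 := by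
  haveI : IsLocalHom (algebraMap RY Rt) :=
    ((IsLocalRing.local_hom_TFAE (algebraMap RY Rt)).out 4 0).1
      (IsLocalRing.eq_maximalIdeal (Ideal.isMaximal_comap_of_isIntegral_of_isMaximal (R := RY)
        (IsLocalRing.maximalIdeal Rt)))
  haveI : Algebra.IsAlgebraic (IsLocalRing.ResidueField RY) (IsLocalRing.ResidueField Rt) := ⟨fun z => by
    obtain ⟨z, rfl⟩ := IsLocalRing.residue_surjective z
    have h1 : IsIntegral RY (IsLocalRing.residue Rt z) :=
      (Algebra.IsIntegral.isIntegral (R := RY) z).map (IsScalarTower.toAlgHom RY Rt _)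
    exact (h1.tower_top (A := IsLocalRing.ResidueField RY)).isAlgebraic⟩
  haveI := (Groth.Agent.S9404.result RY RX Rt (Or.inl inferInstance)).1
  rcases IsLocalRing.isUnit_or_isUnit_one_sub_self t with h | h
  · exact Or.inr (h.mul_left_cancel (by rw [mul_one]; exact ht))
  · refine Or.inl (h.mul_left_cancel ?_)
    rw [mul_zero, sub_mul, one_mul, ht.eq, sub_self]

set_option maxHeartbeats 1000000 in
/-- The idempotents of a geometric fibre over a noetherian base are trivial. -/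
theorem idem_trivial_noeth {A C R₀ RY RX F : Type u} [CommRing A] [IsNoetherianRing A] [CommRing C]
    [Algebra A C] [Module.Flat A C]
    (hgr : GeometricallyReduced (Spec.map (CommRingCat.ofHom (algebraMap A C))))
    [CommRing R₀] [Algebra A R₀] [CommRing RY] [CommRing RX] [HenselianLocalRing RY] [HenselianLocalRing RX]
    [IsSepClosed (IsLocalRing.ResidueField RY)] [Algebra R₀ RY] [Algebra (C ⊗[A] R₀) RX]
    [Algebra RY RX] [IsLocalHom (algebraMap RY RX)]
    (hcompat : ∀ r : R₀, algebraMap (C ⊗[A] R₀) RX (1 ⊗ₜ r) = algebraMap RY RX (algebraMap R₀ RY r))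
    (hRY : Fac (IndAlg.Etale.Et R₀) RY) (hRX : Fac (IndAlg.Etale.Et (C ⊗[A] R₀)) RX)
    [Field F] [Algebra RY F]
    (hfrac : ∀ z : F, ∃ a b : F, IsIntegral RY a ∧ IsIntegral RY b ∧ b ≠ 0 ∧ z * b = a)
    (e : RX ⊗[RY] F) (he : IsIdempotentElem e) : e = 0 ∨ e = 1 := by
  classical
  letI : Algebra R₀ RX := ((algebraMap RY RX).comp (algebraMap R₀ RY)).toAlgebra
  haveI : IsScalarTower R₀ RY RX := .of_algebraMap_eq fun _ => rfl
  letI : Algebra R₀ F := ((algebraMap RY F).comp (algebraMap R₀ RY)).toAlgebra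
  haveI : IsScalarTower R₀ RY F := .of_algebraMap_eq fun _ => rfl
  obtain ⟨e₀, s, hes, hs⟩ := exists_finset_rel R₀ RY RX F e he
  obtain ⟨R₁, _, _, hR₁, v₁, w₁, hvw₁⟩ := hRY (MvPolynomial {x // x ∈ s} R₀) inferInstance
    (MvPolynomial.aeval fun x : {x // x ∈ s} => (x : RY))
  haveI : Algebra.Etale R₀ R₁ := hR₁
  letI : Algebra R₁ RY := w₁.toRingHom.toAlgebra
  letI : Algebra R₁ RX := ((algebraMap RY RX).comp w₁.toRingHom).toAlgebra
  letI : Algebra R₁ F := ((algebraMap RY F).comp w₁.toRingHom).toAlgebra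
  haveI : IsScalarTower R₁ RY RX := .of_algebraMap_eq fun _ => rfl
  haveI : IsScalarTower R₁ RY F := .of_algebraMap_eq fun _ => rfl
  haveI : IsScalarTower R₀ R₁ RX := .of_algebraMap_eq fun x => by
    show _ = algebraMap RY RX (w₁ (algebraMap R₀ R₁ x))
    rw [w₁.commutes, ← IsScalarTower.algebraMap_apply]
  haveI : IsScalarTower R₀ R₁ F := .of_algebraMap_eq fun x => by
    show _ = algebraMap RY F (w₁ (algebraMap R₀ R₁ x))
    rw [w₁.commutes, ← IsScalarTower.algebraMap_apply]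
  let e₁ : RX ⊗[R₁] F := changeBase R₀ R₁ RX F e₀
  have he₁ : IsIdempotentElem e₁ := by
    have h0 : changeBase R₀ R₁ RX F (e₀ * e₀ - e₀) = 0 := by
      refine (RingHom.mem_ker (f := changeBase R₀ R₁ RX F)).1 ((Ideal.span_le.2 ?_) hs)
      rintro _ ⟨r, hr, rfl⟩
      have hw : w₁ (v₁ (MvPolynomial.X ⟨r, hr⟩)) = r := by
        rw [← AlgHom.comp_apply, hvw₁, MvPolynomial.aeval_X]
      rw [SetLike.mem_coe, RingHom.mem_ker, rel, map_sub, changeBase_tmul, changeBase_tmul, sub_eq_zero,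
        show algebraMap RY RX r = algebraMap R₁ RX (v₁ (MvPolynomial.X ⟨r, hr⟩)) from
          (congrArg (algebraMap RY RX) hw).symm,
        show algebraMap RY F r = algebraMap R₁ F (v₁ (MvPolynomial.X ⟨r, hr⟩)) from
          (congrArg (algebraMap RY F) hw).symm,
        Algebra.algebraMap_eq_smul_one, Algebra.algebraMap_eq_smul_one, TensorProduct.smul_tmul]
    rwa [map_sub, map_mul, sub_eq_zero] at h0
  have hcb : ∀ z, changeBase R₁ RY RX F (changeBase R₀ R₁ RX F z) = changeBase R₀ RY RX F z := by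
    intro z
    induction z using TensorProduct.induction_on with
    | zero => simp
    | add x y hx hy => simp [hx, hy]
    | tmul x l => simp [changeBase_tmul]
  obtain ⟨P, _, _, hP, wP, eP, heP, hwP⟩ := exists_fp_idem e₁ he₁
  -- the chart over `R₁`
  let B : Type u := C ⊗[A] R₀
  letI : Algebra R₀ B := Algebra.TensorProduct.rightAlgebra
  let B₁ : Type u := B ⊗[R₀] R₁
  letI : Algebra R₁ B₁ := Algebra.TensorProduct.rightAlgebra
  let cB : C →+* B₁ := (algebraMap B B₁).comp (algebraMap C B)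
  obtain ⟨β, hβ⟩ := exists_tensor_lift (A := R₀) (R := B) (C := R₁) (algebraMap B RX) (algebraMap R₁ RX)
    fun r => (hcompat r).trans (by
      show _ = algebraMap RY RX (w₁ (algebraMap R₀ R₁ r))
      rw [w₁.commutes])
  letI : Algebra B₁ RX := β.toAlgebra
  haveI : IsScalarTower B B₁ RX := .of_algebraMap_eq fun b => by
    show _ = β (b ⊗ₜ 1)
    rw [hβ, map_one, mul_one]
  haveI : IsScalarTower R₁ B₁ RX := .of_algebraMap_eq fun r => by
    show _ = β ((1 : B) ⊗ₜ r)
    rw [hβ, map_one, one_mul]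
  have hRX₁ : Fac (IndAlg.Etale.Et B₁) RX :=
    IndAlg.Etale.fac_tower (IndAlg.Etale.fac_baseChange (fac_self hR₁)) hRX
  haveI : Algebra.FinitePresentation B₁ (B₁ ⊗[R₁] P) := inferInstance
  obtain ⟨E, _, _, hE, vE, wE, hvwE⟩ := hRX₁ (B₁ ⊗[R₁] P) inferInstance
    (Algebra.TensorProduct.lift (Algebra.ofId B₁ RX) wP fun _ _ => .all _ _)
  haveI : Algebra.Etale B₁ E := hE
  letI : Algebra R₁ E := ((algebraMap B₁ E).comp (algebraMap R₁ B₁)).toAlgebra
  haveI : IsScalarTower R₁ B₁ E := .of_algebraMap_eq fun _ => rfl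
  let vP : P →ₐ[R₁] E := (vE.restrictScalars R₁).comp Algebra.TensorProduct.includeRight
  have hvP : ∀ p, wE (vP p) = wP p := fun p => by
    show wE (vE (1 ⊗ₜ p)) = _
    rw [← AlgHom.comp_apply, hvwE, Algebra.TensorProduct.lift_tmul, map_one, one_mul]
  let eE : E ⊗[R₁] F := Algebra.TensorProduct.map vP (AlgHom.id R₁ F) eP
  -- the integral closure
  let Rt := integralClosure RY F
  haveI : IsLocalRing Rt := Groth.Agent.Hensel.isLocalRing_of_isIntegral_domain RY Rt
  have hic : ∀ x : F, IsIntegral Rt x → x ∈ Set.range (algebraMap Rt F) := fun x hx =>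
    ⟨⟨x, isIntegral_trans x hx⟩, rfl⟩
  have hfr : ∀ z : F, ∃ a b : Rt, b ≠ 0 ∧ z * algebraMap Rt F b = algebraMap Rt F a := fun z => by
    obtain ⟨a, b, ha, hb, hb0, hab⟩ := hfrac z
    exact ⟨⟨a, ha⟩, ⟨b, hb⟩, fun h => hb0 (congrArg Subtype.val h), hab⟩
  letI : Algebra A Rt := ((algebraMap RY Rt).comp ((algebraMap R₀ RY).comp (algebraMap A R₀))).toAlgebra
  letI : Algebra R₁ Rt := ((algebraMap RY Rt).comp w₁.toRingHom).toAlgebra
  haveI : IsScalarTower R₁ Rt F := .of_algebraMap_eq fun r =>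
    IsScalarTower.algebraMap_apply RY Rt F (w₁ r)
  obtain ⟨η₀, hη₀⟩ := exists_tensor_lift (A := A) (R := C) (C := R₀)
    (Algebra.TensorProduct.includeRight : C →ₐ[A] Rt ⊗[A] C).toRingHom
    ((Algebra.TensorProduct.includeLeftRingHom : Rt →+* Rt ⊗[A] C).comp
      ((algebraMap RY Rt).comp (algebraMap R₀ RY))) fun a => (Algebra.TensorProduct.tmul_one_eq_one_tmul a).symm
  obtain ⟨η, hη⟩ := exists_tensor_lift (A := R₀) (R := B) (C := R₁) η₀
    ((Algebra.TensorProduct.includeLeftRingHom : Rt →+* Rt ⊗[A] C).comp (algebraMap R₁ Rt)) fun r => by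
      show η₀ ((1 : C) ⊗ₜ r) = (algebraMap RY Rt (w₁ (algebraMap R₀ R₁ r))) ⊗ₜ 1
      rw [hη₀, map_one, one_mul, w₁.commutes]
      rfl
  let ιT : RX ⊗[RY] Rt →ₐ[RY] RX ⊗[RY] F :=
    Algebra.TensorProduct.map (AlgHom.id RY RX) Rt.val
  let rT : Rt →+* RX ⊗[RY] Rt := (Algebra.TensorProduct.includeRight : Rt →ₐ[RY] RX ⊗[RY] Rt).toRingHom
  let wT : E →+* RX ⊗[RY] Rt := (Algebra.TensorProduct.includeLeftRingHom : RX →+* RX ⊗[RY] Rt).comp wE.toRingHom
  let wE₁ : E →ₐ[R₁] RX := wE.restrictScalars R₁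
  let ρ : E ⊗[R₁] F →+* RX ⊗[RY] F :=
    ((changeBase R₁ RY RX F).comp (Algebra.TensorProduct.map wE₁ (AlgHom.id R₁ F))).toRingHom
  obtain ⟨t, ht, hte⟩ := exists_idem_stage hgr (R₁ := R₁) (B₁ := B₁) cB (fun b => by
      induction b using TensorProduct.induction_on with
      | zero => exact zero_mem _
      | add x y hx hy => exact add_mem hx hy
      | tmul b r₁ =>
        induction b using TensorProduct.induction_on with
        | zero => rw [TensorProduct.zero_tmul]; exact zero_mem _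
        | add x y hx hy => rw [TensorProduct.add_tmul]; exact add_mem hx hy
        | tmul c r =>
          have : ((c ⊗ₜ[A] r : B) ⊗ₜ[R₀] r₁ : B₁) = cB c * algebraMap R₁ B₁ (r • r₁) := by
            show _ = ((c ⊗ₜ[A] (1 : R₀) : B) ⊗ₜ[R₀] (1 : R₁)) * ((1 : B) ⊗ₜ[R₀] (r • r₁))
            rw [Algebra.TensorProduct.tmul_mul_tmul, mul_one, one_mul, ← TensorProduct.smul_tmul,
              Algebra.smul_def]
            show _ = (((1 : C) ⊗ₜ[A] r) * (c ⊗ₜ[A] (1 : R₀))) ⊗ₜ[R₀] r₁
            rw [Algebra.TensorProduct.tmul_mul_tmul, one_mul, mul_one]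
          rw [this]
          exact mul_mem (Subring.subset_closure (Or.inl ⟨c, rfl⟩)) (Subring.subset_closure (Or.inr ⟨_, rfl⟩)))
    (E := E) (Rt := Rt) (F := F) Subtype.val_injective hic hfr η
    (fun c => by
      show η ((c ⊗ₜ[A] (1 : R₀)) ⊗ₜ[R₀] (1 : R₁)) = _
      rw [hη, map_one, mul_one, hη₀, map_one, mul_one]
      rfl)
    (fun r => by
      show η ((1 : B) ⊗ₜ[R₀] r) = _
      rw [hη, map_one, one_mul]
      rfl)
    rT wT (fun r => by
      show wE (algebraMap B₁ E (algebraMap R₁ B₁ r)) ⊗ₜ[RY] (1 : Rt) = (1 : RX) ⊗ₜ[RY] algebraMap R₁ Rt r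
      rw [wE.commutes, ← IsScalarTower.algebraMap_apply R₁ B₁ RX]
      exact Algebra.TensorProduct.tmul_one_eq_one_tmul (w₁ r))
    (fun a => by
      show wE (algebraMap B₁ E (cB (algebraMap A C a))) ⊗ₜ[RY] (1 : Rt) = (1 : RX) ⊗ₜ[RY] algebraMap A Rt a
      rw [wE.commutes]
      show algebraMap B₁ RX (algebraMap B B₁ (algebraMap A C a ⊗ₜ[A] (1 : R₀))) ⊗ₜ[RY] (1 : Rt) = _
      rw [← IsScalarTower.algebraMap_apply B B₁ RX,
        show algebraMap A C a ⊗ₜ[A] (1 : R₀) = (1 : C) ⊗ₜ[A] algebraMap A R₀ a from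
          Algebra.TensorProduct.tmul_one_eq_one_tmul a, hcompat]
      exact Algebra.TensorProduct.tmul_one_eq_one_tmul _)
    ιT.toRingHom (Algebra.TensorProduct.includeRight : F →ₐ[RY] RX ⊗[RY] F).toRingHom
    (fun x => by
      show ιT ((1 : RX) ⊗ₜ[RY] x) = (1 : RX) ⊗ₜ[RY] (x : F)
      rfl)
    ρ (fun ε => by
      show changeBase R₁ RY RX F (wE₁ ε ⊗ₜ[R₁] (1 : F)) = ιT (wE ε ⊗ₜ[RY] (1 : Rt))
      rw [changeBase_tmul]
      rfl)
    (fun z => by
      show changeBase R₁ RY RX F (wE₁ 1 ⊗ₜ[R₁] z) = (1 : RX) ⊗ₜ[RY] z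
      rw [changeBase_tmul, map_one])
    eE (heP.map _)
  have hρ : ρ eE = e := by
    show changeBase R₁ RY RX F (Algebra.TensorProduct.map wE₁ (AlgHom.id R₁ F)
      (Algebra.TensorProduct.map vP (AlgHom.id R₁ F) eP)) = e
    have : Algebra.TensorProduct.map wE₁ (AlgHom.id R₁ F) (Algebra.TensorProduct.map vP (AlgHom.id R₁ F) eP) =
        e₁ := by
      rw [← hwP]
      suffices ∀ z : P ⊗[R₁] F, Algebra.TensorProduct.map wE₁ (AlgHom.id R₁ F)
          (Algebra.TensorProduct.map vP (AlgHom.id R₁ F) z) = Algebra.TensorProduct.map wP (AlgHom.id R₁ F) z from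
        this eP
      intro z
      induction z using TensorProduct.induction_on with
      | zero => simp
      | add x y hx hy => simp only [map_add, hx, hy]
      | tmul p z =>
        simp only [Algebra.TensorProduct.map_tmul, AlgHom.coe_id, id_eq]
        exact congrArg (· ⊗ₜ[R₁] z) (hvP p)
    rw [this, hcb, hes]
  rw [hρ] at hte
  rcases idem_trivial_integral t ht with rfl | rfl
  · left; rw [← hte]; exact map_zero ιT
  · right; rw [← hte]; exact map_one ιT

end Groth.Agent.ZeroAcyc
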