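import Groth.Agent.ZeroAcyc.NormalIdem
import Groth.Agent.ZeroAcyc.Geom
import Mathlib.RingTheory.Smooth.NoetherianDescent
import Mathlib.RingTheory.Etale.Basic
import Mathlib.RingTheory.Localization.AtPrime.Basic

/-!
Idempotents of étale stages come from integral extensions.
-/

set_option autoImplicit false
set_option linter.style.haveILetI false
set_option backward.isDefEq.respectTransparency.types false

universe u

open CategoryTheory CategoryTheory.Limits AlgebraicGeometry
open scoped TensorProduct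

namespace Groth.Agent.ZeroAcyc

/-- A finite subset of a local domain lies in a noetherian local subalgebra. -/
theorem exists_local_noetherian {A Rt : Type u} [CommRing A] [IsNoetherianRing A] [CommRing Rt] [IsDomain Rt]
    [IsLocalRing Rt] [Algebra A Rt] (s : Finset Rt) :
    ∃ (D : Type u) (_ : CommRing D) (_ : IsDomain D) (_ : IsNoetherianRing D) (_ : IsLocalRing D)
      (_ : Algebra A D) (j : D →ₐ[A] Rt), Function.Injective j ∧ (s : Set Rt) ⊆ Set.range j := by
  let D₀ : Subalgebra A Rt := Algebra.adjoin A (s : Set Rt)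
  haveI : Algebra.FiniteType A D₀ := (Subalgebra.fg_iff_finiteType D₀).1 ⟨s, rfl⟩
  haveI : IsNoetherianRing D₀ := Algebra.FiniteType.isNoetherianRing A D₀
  let p : Ideal D₀ := (IsLocalRing.maximalIdeal Rt).comap D₀.val.toRingHom
  haveI : p.IsPrime := Ideal.IsPrime.comap _
  let D := Localization.AtPrime p
  haveI : IsDomain D := IsLocalization.isDomain_localization p.primeCompl_le_nonZeroDivisors
  haveI : IsNoetherianRing D := IsLocalization.isNoetherianRing p.primeCompl D inferInstance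
  have hu : ∀ y : p.primeCompl, IsUnit (D₀.val (y : D₀)) := fun y =>
    not_not.1 fun h => y.2 ((IsLocalRing.mem_maximalIdeal _).2 h)
  let j : D →ₐ[A] Rt := IsLocalization.liftAlgHom (f := D₀.val) hu
  have hj : ∀ x, j (algebraMap D₀ D x) = (x : Rt) := fun x => IsLocalization.lift_eq _ x
  refine ⟨D, inferInstance, inferInstance, inferInstance, inferInstance, inferInstance, j, ?_, ?_⟩
  · refine (injective_iff_map_eq_zero j).2 fun z hz => ?_
    obtain ⟨x, y, rfl⟩ := IsLocalization.exists_mk'_eq p.primeCompl z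
    have h1 : j (algebraMap D₀ D x) = 0 := by
      rw [← IsLocalization.mk'_spec D x y, map_mul, hz, zero_mul]
    rw [hj] at h1
    rw [show x = 0 from Subtype.ext h1, IsLocalization.mk'_zero]
  · intro x hx
    exact ⟨algebraMap D₀ D ⟨x, Algebra.subset_adjoin hx⟩, hj _⟩

/-- Elements generated over two rings involve only finitely many scalars. -/
theorem exists_finset_closure {E F U : Type u} [CommRing U] (f : E → U) (g : F → U) (x : U)
    (hx : x ∈ Subring.closure (Set.range f ∪ Set.range g)) :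
    ∃ Z : Finset F, x ∈ Subring.closure (Set.range f ∪ g '' (Z : Set F)) := by
  classical
  have mono : ∀ {Z Z' : Finset F}, Z ⊆ Z' →
      Subring.closure (Set.range f ∪ g '' (Z : Set F)) ≤ Subring.closure (Set.range f ∪ g '' (Z' : Set F)) :=
    fun h => Subring.closure_mono (Set.union_subset_union_right _ (Set.image_mono (Finset.coe_subset.2 h)))
  induction hx using Subring.closure_induction with
  | mem x hx =>
    rcases hx with hx | ⟨z, rfl⟩
    · exact ⟨∅, Subring.subset_closure (Or.inl hx)⟩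
    · exact ⟨{z}, Subring.subset_closure (Or.inr ⟨z, Finset.mem_coe.2 (Finset.mem_singleton_self z), rfl⟩)⟩
  | zero => exact ⟨∅, zero_mem _⟩
  | one => exact ⟨∅, one_mem _⟩
  | add x y _ _ hx hy =>
    obtain ⟨Z, hZ⟩ := hx
    obtain ⟨Z', hZ'⟩ := hy
    exact ⟨Z ∪ Z', add_mem (mono Finset.subset_union_left hZ) (mono Finset.subset_union_right hZ')⟩
  | neg x _ hx =>
    obtain ⟨Z, hZ⟩ := hx
    exact ⟨Z, neg_mem hZ⟩
  | mul x y _ _ hx hy =>
    obtain ⟨Z, hZ⟩ := hx
    obtain ⟨Z', hZ'⟩ := hy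
    exact ⟨Z ∪ Z', mul_mem (mono Finset.subset_union_left hZ) (mono Finset.subset_union_right hZ')⟩

/-- Maps out of tensor products of rings. -/
theorem exists_tensor_lift {A R C Q : Type u} [CommRing A] [CommRing R] [CommRing C] [Algebra A R] [Algebra A C]
    [CommRing Q] (r₀ : R →+* Q) (c₀ : C →+* Q) (h : ∀ a, r₀ (algebraMap A R a) = c₀ (algebraMap A C a)) :
    ∃ χ : R ⊗[A] C →+* Q, ∀ x c, χ (x ⊗ₜ c) = r₀ x * c₀ c := by
  letI : Algebra A Q := (r₀.comp (algebraMap A R)).toAlgebra
  exact ⟨(Algebra.TensorProduct.lift ({ r₀ with commutes' := fun _ => rfl } : R →ₐ[A] Q)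
    ({ c₀ with commutes' := fun a => (h a).symm } : C →ₐ[A] Q) fun _ _ => .all _ _).toRingHom,
    fun x c => Algebra.TensorProduct.lift_tmul _ _ _ _ _⟩

/-- Pushouts of étale algebras, with their universal property. -/
theorem exists_etale_pushout {B0 S E0 : Type u} [CommRing B0] [CommRing S] [CommRing E0] [Algebra B0 S]
    [Algebra B0 E0] [Algebra.Etale B0 E0] :
    ∃ (M : Type u) (_ : CommRing M) (_ : Algebra S M) (_ : Algebra.Etale S M) (u : E0 →+* M),
      (∀ b, algebraMap S M (algebraMap B0 S b) = u (algebraMap B0 E0 b)) ∧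
      ∀ (Q : Type u) [CommRing Q] (f : S →+* Q) (g : E0 →+* Q),
        (∀ b, f (algebraMap B0 S b) = g (algebraMap B0 E0 b)) →
        ∃ θ : M →+* Q, (∀ s, θ (algebraMap S M s) = f s) ∧ ∀ ε, θ (u ε) = g ε := by
  refine ⟨S ⊗[B0] E0, inferInstance, inferInstance, inferInstance,
    (Algebra.TensorProduct.includeRight : E0 →ₐ[B0] S ⊗[B0] E0).toRingHom, fun b => ?_, fun Q _ f g h => ?_⟩
  · exact Algebra.TensorProduct.tmul_one_eq_one_tmul b
  · obtain ⟨θ, hθ⟩ := exists_tensor_lift (A := B0) f g h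
    refine ⟨θ, fun s => ?_, fun ε => ?_⟩
    · show θ (s ⊗ₜ 1) = f s
      rw [hθ, map_one, mul_one]
    · show θ (1 ⊗ₜ ε) = g ε
      rw [hθ, map_one, one_mul]

/-- Étale algebras over base changes have reduced geometric fibres. -/
theorem isReduced_fibre_etale {A C : Type u} [CommRing A] [CommRing C] [Algebra A C]
    (hgr : GeometricallyReduced (Spec.map (CommRingCat.ofHom (algebraMap A C))))
    {D M : Type u} [CommRing D] [Algebra A D] [CommRing M] [Algebra (D ⊗[A] C) M]
    [Algebra.Etale (D ⊗[A] C) M] [Algebra D M] [IsScalarTower D (D ⊗[A] C) M]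
    (k : Type u) [Field k] [Algebra D k] : _root_.IsReduced (M ⊗[D] k) := by
  let c : Spec (CommRingCat.of (D ⊗[A] C)) ⟶ Spec (CommRingCat.of D) :=
    Spec.map (CommRingCat.ofHom (algebraMap D (D ⊗[A] C)))
  haveI := hgr
  haveI : GeometricallyReduced c := by
    have hc : c = (pullbackSpecIso A D C).inv ≫ pullback.fst _ _ := (pullbackSpecIso_inv_fst' _ _ _).symm
    rw [hc]
    exact geometricallyReduced_etale_comp _ _
  let h : Spec (CommRingCat.of M) ⟶ Spec (CommRingCat.of (D ⊗[A] C)) :=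
    Spec.map (CommRingCat.ofHom (algebraMap (D ⊗[A] C) M))
  haveI : Etale h := (HasRingHomProperty.Spec_iff (P := @Etale)).2 (RingHom.etale_algebraMap.2 inferInstance)
  haveI := geometricallyReduced_etale_comp h c
  have hm : h ≫ c = Spec.map (CommRingCat.ofHom (algebraMap D M)) := by
    rw [← Spec.map_comp, ← CommRingCat.ofHom_comp, ← IsScalarTower.algebraMap_eq]
  haveI : GeometricallyReduced (Spec.map (CommRingCat.ofHom (algebraMap D M))) := hm ▸ ‹_›
  have : AlgebraicGeometry.IsReduced (pullback (Spec.map (CommRingCat.ofHom (algebraMap D M)))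
      (Spec.map (CommRingCat.ofHom (algebraMap D k)))) :=
    pullback_of_geometrically GeometricallyReduced.geometrically_isReduced k _
  haveI := isReduced_of_isOpenImmersion (pullbackSpecIso D M k).inv
  exact (affine_isReduced_iff (CommRingCat.of (M ⊗[D] k))).1 inferInstance

set_option maxHeartbeats 1600000 in
/-- Idempotents of an étale stage come from an integrally closed local domain. -/
theorem exists_idem_stage {A C R₁ B₁ E Rt F : Type u} [CommRing A] [IsNoetherianRing A] [CommRing C]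
    [Algebra A C] [Module.Flat A C]
    (hgr : GeometricallyReduced (Spec.map (CommRingCat.ofHom (algebraMap A C))))
    [CommRing R₁] [CommRing B₁] [Algebra R₁ B₁] (cB : C →+* B₁)
    (hgen : ∀ b, b ∈ Subring.closure (Set.range cB ∪ Set.range (algebraMap R₁ B₁)))
    [CommRing E] [Algebra B₁ E] [Algebra.Etale B₁ E] [Algebra R₁ E] [IsScalarTower R₁ B₁ E]
    [CommRing Rt] [IsDomain Rt] [IsLocalRing Rt] [Algebra A Rt] [Field F] [Algebra Rt F] [Algebra R₁ Rt]
    [Algebra R₁ F] [IsScalarTower R₁ Rt F] (hinj : Function.Injective (algebraMap Rt F))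
    (hic : ∀ x : F, IsIntegral Rt x → x ∈ Set.range (algebraMap Rt F))
    (hfrac : ∀ z : F, ∃ a b : Rt, b ≠ 0 ∧ z * algebraMap Rt F b = algebraMap Rt F a)
    (η : B₁ →+* Rt ⊗[A] C) (hηC : ∀ c, η (cB c) = 1 ⊗ₜ c)
    (hηR : ∀ r, η (algebraMap R₁ B₁ r) = algebraMap R₁ Rt r ⊗ₜ 1)
    {T U : Type u} [CommRing T] [CommRing U] (rT : Rt →+* T) (wT : E →+* T)
    (hwR : ∀ r, wT (algebraMap R₁ E r) = rT (algebraMap R₁ Rt r))
    (hwA : ∀ a, wT (algebraMap B₁ E (cB (algebraMap A C a))) = rT (algebraMap A Rt a))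
    (ιT : T →+* U) (φF : F →+* U) (hU : ∀ x, ιT (rT x) = φF (algebraMap Rt F x))
    (ρ : E ⊗[R₁] F →+* U) (hρE : ∀ ε, ρ (ε ⊗ₜ 1) = ιT (wT ε)) (hρF : ∀ z, ρ (1 ⊗ₜ z) = φF z)
    (eE : E ⊗[R₁] F) (he : IsIdempotentElem eE) : ∃ t : T, IsIdempotentElem t ∧ ιT t = ρ eE := by
  classical
  obtain ⟨B0, E0, _, _, hB0, hE0, ⟨e⟩⟩ := Algebra.Etale.exists_subalgebra_fg (R := ℤ) (A := B₁) (B := E)
  -- finitely many scalars
  let f : E → E ⊗[R₁] F := fun ε => ε ⊗ₜ 1
  let g : F → E ⊗[R₁] F := fun z => 1 ⊗ₜ z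
  let f' : C ⊕ E0 → E ⊗[R₁] F :=
    Sum.elim (fun c => f (algebraMap B₁ E (cB c))) (fun ε => f (e.symm (1 ⊗ₜ ε)))
  have hF' : eE ∈ Subring.closure (Set.range f' ∪ Set.range g) := by
    let S := Subring.closure (Set.range f' ∪ Set.range g)
    have hR : ∀ r, f (algebraMap R₁ E r) ∈ S := fun r => by
      have : f (algebraMap R₁ E r) = g (algebraMap R₁ F r) := by
        show algebraMap R₁ E r ⊗ₜ[R₁] (1 : F) = (1 : E) ⊗ₜ algebraMap R₁ F r
        rw [Algebra.algebraMap_eq_smul_one, Algebra.algebraMap_eq_smul_one, TensorProduct.smul_tmul]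
      rw [this]
      exact Subring.subset_closure (Or.inr ⟨_, rfl⟩)
    let fH : E →+* E ⊗[R₁] F := Algebra.TensorProduct.includeLeftRingHom
    have hb : ∀ b, fH (algebraMap B₁ E b) ∈ S := by
      intro b
      induction hgen b using Subring.closure_induction with
      | mem x hx =>
        rcases hx with ⟨c, rfl⟩ | ⟨r, rfl⟩
        · exact Subring.subset_closure (Or.inl ⟨Sum.inl c, rfl⟩)
        · rw [← IsScalarTower.algebraMap_apply R₁ B₁ E]; exact hR r
      | zero => simp only [map_zero]; exact zero_mem _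
      | one => simp only [map_one]; exact one_mem _
      | add x y _ _ hx hy => simp only [map_add]; exact add_mem hx hy
      | neg x _ hx => simp only [map_neg]; exact neg_mem hx
      | mul x y _ _ hx hy => simp only [map_mul]; exact mul_mem hx hy
    have hE : ∀ ε, fH ε ∈ S := by
      intro ε
      rw [← e.symm_apply_apply ε]
      induction e ε using TensorProduct.induction_on with
      | zero => simp only [map_zero]; exact zero_mem _
      | add x y hx hy => simp only [map_add]; exact add_mem hx hy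
      | tmul b ε0 =>
        have : e.symm (b ⊗ₜ[B0] ε0) = algebraMap B₁ E b * e.symm (1 ⊗ₜ ε0) := by
          rw [← Algebra.smul_def, ← map_smul, TensorProduct.smul_tmul', smul_eq_mul, mul_one]
        rw [this, map_mul]
        exact mul_mem (hb b) (Subring.subset_closure (Or.inl ⟨Sum.inr ε0, rfl⟩))
    suffices ∀ w : E ⊗[R₁] F, w ∈ S from this eE
    intro w
    induction w using TensorProduct.induction_on with
    | zero => exact zero_mem _
    | add x y hx hy => exact add_mem hx hy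
    | tmul ε z =>
      have : ε ⊗ₜ[R₁] z = fH ε * g z := by
        show _ = (ε ⊗ₜ[R₁] (1 : F)) * ((1 : E) ⊗ₜ z)
        rw [Algebra.TensorProduct.tmul_mul_tmul, mul_one, one_mul]
      rw [this]
      exact mul_mem (hE ε) (Subring.subset_closure (Or.inr ⟨z, rfl⟩))
  obtain ⟨Z, hZ⟩ := exists_finset_closure f' g eE hF'
  choose num den hden hfr using hfrac
  obtain ⟨G, hG⟩ := hB0
  -- scalars occurring in the generators of `B0`
  let fC : C → B₁ := cB
  have hGs : ∀ b : B₁, ∃ Zb : Finset R₁, b ∈ Subring.closure (Set.range fC ∪ algebraMap R₁ B₁ '' (Zb : Set R₁)) :=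
    fun b => exists_finset_closure fC (algebraMap R₁ B₁) b (hgen b)
  choose Zb hZb using hGs
  let s : Finset Rt := Z.image num ∪ Z.image den ∪ (G.biUnion Zb).image (algebraMap R₁ Rt)
  obtain ⟨D, _, _, _, _, _, j, hjinj, hjs⟩ := exists_local_noetherian (A := A) s
  let ι : D ⊗[A] C →ₐ[A] Rt ⊗[A] C := Algebra.TensorProduct.map j (AlgHom.id A C)
  have hι : Function.Injective ι :=
    Module.Flat.rTensor_preserves_injective_linearMap (M := C) j.toLinearMap hjinj
  have hB0r : ∀ b : B0, η b ∈ ι.toRingHom.range := by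
    suffices ∀ b ∈ Algebra.adjoin ℤ (G : Set B₁), η b ∈ ι.toRingHom.range from fun b => this b (hG ▸ b.2)
    intro b hb
    induction hb using Algebra.adjoin_induction with
    | mem b hb =>
      have h1 : Subring.closure (Set.range fC ∪ algebraMap R₁ B₁ '' (Zb b : Set R₁)) ≤
          ι.toRingHom.range.comap η := by
        refine Subring.closure_le.2 ?_
        rintro _ (⟨c, rfl⟩ | ⟨r, hr, rfl⟩)
        · exact ⟨1 ⊗ₜ c, by
            show ι (1 ⊗ₜ c) = η (cB c)
            rw [hηC]; simp [ι]⟩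
        · obtain ⟨d, hd⟩ := hjs (Finset.mem_coe.2 (Finset.mem_union_right _ (Finset.mem_image_of_mem _
            (Finset.mem_biUnion.2 ⟨b, hb, Finset.mem_coe.1 hr⟩))))
          exact ⟨d ⊗ₜ 1, by
            show ι (d ⊗ₜ 1) = η (algebraMap R₁ B₁ r)
            rw [hηR, ← hd]; simp [ι]⟩
      exact h1 (hZb b)
    | algebraMap n => simp only [eq_intCast, map_intCast]; exact ⟨n, map_intCast _ n⟩
    | add x y _ _ hx hy => rw [map_add]; exact add_mem hx hy
    | mul x y _ _ hx hy => rw [map_mul]; exact mul_mem hx hy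
  choose ψ hψ using hB0r
  have hψ' : ∀ b, ι (ψ b) = η b := hψ
  let ψh : B0 →+* D ⊗[A] C :=
    { toFun := ψ
      map_one' := hι (by rw [hψ', map_one]; exact map_one η)
      map_mul' := fun x y => hι (by rw [hψ', map_mul ι, hψ', hψ']; exact map_mul η _ _)
      map_zero' := hι (by rw [hψ', map_zero ι]; exact map_zero η)
      map_add' := fun x y => hι (by rw [hψ', map_add ι, hψ', hψ']; exact map_add η _ _) }
  letI : Algebra B0 (D ⊗[A] C) := ψh.toAlgebra
  haveI : Algebra.Etale B0 E0 := hE0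
  obtain ⟨M, _, _, _, u, hu, hlift⟩ := exists_etale_pushout (B0 := B0) (S := D ⊗[A] C) (E0 := E0)
  letI : Algebra D M := ((algebraMap (D ⊗[A] C) M).comp (algebraMap D (D ⊗[A] C))).toAlgebra
  haveI : IsScalarTower D (D ⊗[A] C) M := .of_algebraMap_eq fun _ => rfl
  haveI : Module.Flat D M := Module.Flat.trans D (D ⊗[A] C) M
  have hred : ∀ (k : Type u) [Field k] [Algebra D k], _root_.IsReduced (M ⊗[D] k) := fun k _ _ =>
    isReduced_fibre_etale (A := A) (C := C) hgr (M := M) k
  -- fields of fractions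
  let K : Type u := FractionRing D
  have hDF : Function.Injective ((algebraMap Rt F).comp j.toRingHom) := hinj.comp hjinj
  letI : Algebra D F := ((algebraMap Rt F).comp j.toRingHom).toAlgebra
  let k : K →ₐ[D] F := IsFractionRing.liftAlgHom (g := Algebra.ofId D F) hDF
  have hkS : ∀ x : integralClosure D K, ∃ y : Rt, algebraMap Rt F y = k x := fun x => by
    have h1 : IsIntegral D (k (x : K)) := x.2.map k
    letI : Algebra D Rt := j.toRingHom.toAlgebra
    haveI : IsScalarTower D Rt F := .of_algebraMap_eq fun _ => rfl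
    exact hic _ h1.tower_top
  choose σ hσ using hkS
  let σh : integralClosure D K →+* Rt :=
    { toFun := σ
      map_one' := hinj (by simp [hσ])
      map_mul' := fun x y => hinj (by simp [hσ])
      map_zero' := hinj (by simp [hσ])
      map_add' := fun x y => hinj (by simp [hσ]) }
  -- the maps
  obtain ⟨γ, hγ'⟩ := exists_tensor_lift (A := A) rT (wT.comp ((algebraMap B₁ E).comp cB)) fun a => (hwA a).symm
  have hγ : ∀ x c, γ (x ⊗ₜ c) = rT x * wT (algebraMap B₁ E (cB c)) := hγ'
  have hγη : ∀ b, γ (η b) = wT (algebraMap B₁ E b) := fun b => by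
    induction hgen b using Subring.closure_induction with
    | mem x hx =>
      rcases hx with ⟨c, rfl⟩ | ⟨r, rfl⟩
      · rw [hηC, hγ, map_one, one_mul]
      · rw [hηR, hγ, map_one, map_one, map_one, mul_one, ← IsScalarTower.algebraMap_apply R₁ B₁ E, hwR]
    | zero => simp
    | one => simp
    | add x y _ _ hx hy => simp only [map_add, hx, hy]
    | neg x _ hx => simp only [map_neg, hx]
    | mul x y _ _ hx hy => simp only [map_mul, hx, hy]
  let gT : E0 →+* T := wT.comp (e.symm.toRingEquiv.toRingHom.comp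
    (Algebra.TensorProduct.includeRight : E0 →ₐ[B0] B₁ ⊗[B0] E0).toRingHom)
  obtain ⟨θ, hθ₁, hθ₂⟩ := hlift T (γ.comp ι.toRingHom) gT fun b => by
    show γ (ι (ψ b)) = wT (e.symm (1 ⊗ₜ algebraMap B0 E0 b))
    rw [hψ', hγη, ← Algebra.TensorProduct.tmul_one_eq_one_tmul]
    exact congrArg wT (e.symm.commutes (b : B₁)).symm
  have hθD : ∀ d, θ (algebraMap D M d) = rT (j d) := fun d => by
    show θ (algebraMap (D ⊗[A] C) M (d ⊗ₜ[A] (1 : C))) = _
    rw [hθ₁]
    show γ (j d ⊗ₜ 1) = _
    rw [hγ, map_one, map_one, map_one, mul_one]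
  letI : Algebra D T := (rT.comp j.toRingHom).toAlgebra
  letI : Algebra D U := (ιT.comp (rT.comp j.toRingHom)).toAlgebra
  let θD : M →ₐ[D] T := { θ with commutes' := hθD }
  let σD : integralClosure D K →ₐ[D] T := { rT.comp σh with
    commutes' := fun d => by
      show rT (σ (algebraMap D (integralClosure D K) d)) = rT (j d)
      refine congrArg rT (hinj ?_)
      rw [hσ]
      exact k.commutes d }
  let ΨS : M ⊗[D] integralClosure D K →ₐ[D] T := Algebra.TensorProduct.lift θD σD fun _ _ => .all _ _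
  let ΨK : M ⊗[D] K →ₐ[D] U := Algebra.TensorProduct.lift
    ({ ιT.comp θ with commutes' := fun d => congrArg ιT (hθD d) } : M →ₐ[D] U)
    ({ φF.comp k.toRingHom with
      commutes' := fun d => by
        show φF (k (algebraMap D K d)) = ιT (rT (j d))
        rw [k.commutes, hU]
        rfl } : K →ₐ[D] U) fun _ _ => .all _ _
  have hΨ : ∀ t, ιT (ΨS t) = ΨK (Algebra.TensorProduct.map (AlgHom.id D M) (integralClosure D K).val t) := by
    intro t
    induction t using TensorProduct.induction_on with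
    | zero => simp
    | add x y hx hy => simp only [map_add, hx, hy]
    | tmul x y =>
      simp only [ΨS, ΨK, Algebra.TensorProduct.lift_tmul, Algebra.TensorProduct.map_tmul]
      show ιT (θ x * rT (σ y)) = ιT (θ x) * φF (k (y : K))
      rw [map_mul, hU, hσ]
  -- lifting to `M ⊗ F`
  have hA : ∀ a : A, (1 : M) ⊗ₜ[D] algebraMap Rt F (algebraMap A Rt a) =
      algebraMap (D ⊗[A] C) M (1 ⊗ₜ algebraMap A C a) ⊗ₜ[D] (1 : F) := fun a => by
    rw [show (1 : D) ⊗ₜ[A] algebraMap A C a = algebraMap D (D ⊗[A] C) (algebraMap A D a) from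
        ((Algebra.TensorProduct.includeRight : C →ₐ[A] D ⊗[A] C).commutes a).trans
          (IsScalarTower.algebraMap_apply A D _ a),
      ← IsScalarTower.algebraMap_apply D (D ⊗[A] C) M, ← j.commutes a]
    show (1 : M) ⊗ₜ[D] algebraMap D F (algebraMap A D a) = _
    rw [Algebra.algebraMap_eq_smul_one (A := M), Algebra.algebraMap_eq_smul_one (A := F)]
    exact (TensorProduct.smul_tmul _ _ _).symm
  obtain ⟨χ, hχ⟩ : ∃ χ : Rt ⊗[A] C →+* M ⊗[D] F, ∀ x c, χ (x ⊗ₜ c) =
      ((1 : M) ⊗ₜ[D] algebraMap Rt F x) * (algebraMap (D ⊗[A] C) M (1 ⊗ₜ c) ⊗ₜ[D] (1 : F)) := by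
    let r₀ : Rt →+* M ⊗[D] F :=
      (Algebra.TensorProduct.includeRight : F →ₐ[D] M ⊗[D] F).toRingHom.comp (algebraMap Rt F)
    let c₀ : C →+* M ⊗[D] F :=
      ((Algebra.TensorProduct.includeLeftRingHom : M →+* M ⊗[D] F).comp (algebraMap (D ⊗[A] C) M)).comp
        (Algebra.TensorProduct.includeRight : C →ₐ[A] D ⊗[A] C).toRingHom
    exact exists_tensor_lift (A := A) r₀ c₀ fun a => hA a
  have hχι : ∀ x : D ⊗[A] C, χ (ι x) = algebraMap (D ⊗[A] C) M x ⊗ₜ 1 := fun x => by
    induction x using TensorProduct.induction_on with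
    | zero => simp
    | add x y hx hy => simp only [map_add, hx, hy, TensorProduct.add_tmul]
    | tmul d c =>
      show χ (j d ⊗ₜ c) = _
      rw [hχ, show (d ⊗ₜ[A] c : D ⊗[A] C) = algebraMap D (D ⊗[A] C) d * (1 ⊗ₜ c) by simp, map_mul,
        ← IsScalarTower.algebraMap_apply D (D ⊗[A] C) M, Algebra.TensorProduct.tmul_mul_tmul, one_mul, mul_one,
        ← Algebra.smul_def, show algebraMap Rt F (j d) = algebraMap D F d from rfl,
        Algebra.algebraMap_eq_smul_one (A := F)]
      exact (TensorProduct.smul_tmul _ _ _).symm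
  let gM : E0 →+* M ⊗[D] F := (Algebra.TensorProduct.includeLeftRingHom : M →+* M ⊗[D] F).comp u
  obtain ⟨n, hn⟩ := exists_tensor_lift (A := B0) (χ.comp η) gM fun b => by
    show χ (η b) = u (algebraMap B0 E0 b) ⊗ₜ[D] (1 : F)
    rw [← hψ', hχι, ← hu]
    rfl
  let nE : E →+* M ⊗[D] F := n.comp e.toRingEquiv.toRingHom
  have hnB : ∀ b, nE (algebraMap B₁ E b) = χ (η b) := fun b => by
    show n (e (algebraMap B₁ E b)) = _
    rw [e.commutes]
    show n (b ⊗ₜ 1) = _
    rw [hn, map_one gM, mul_one]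
    rfl
  have hnE : ∀ ε, nE (e.symm (1 ⊗ₜ ε)) = u ε ⊗ₜ[D] (1 : F) := fun ε => by
    show n (e (e.symm (1 ⊗ₜ ε))) = _
    rw [e.apply_symm_apply, hn, map_one, one_mul]
    rfl
  have hnR : ∀ r, nE (algebraMap R₁ E r) = (1 : M) ⊗ₜ[D] algebraMap R₁ F r := fun r => by
    rw [IsScalarTower.algebraMap_apply R₁ B₁ E, hnB, hηR, hχ, ← IsScalarTower.algebraMap_apply R₁ Rt F]
    rw [show algebraMap (D ⊗[A] C) M (1 ⊗ₜ 1) = 1 from map_one _, ← Algebra.TensorProduct.one_def, mul_one]
  obtain ⟨Φ, hΦ⟩ := exists_tensor_lift (A := R₁) nE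
    (Algebra.TensorProduct.includeRight : F →ₐ[D] M ⊗[D] F).toRingHom fun r => hnR r
  let ιK : M ⊗[D] K →ₐ[D] M ⊗[D] F := Algebra.TensorProduct.map (AlgHom.id D M) k
  have hΦE : ∀ ε, Φ (ε ⊗ₜ 1) = nE ε := fun ε => by
    rw [hΦ, map_one, mul_one]
  have hΦF : ∀ z, Φ (1 ⊗ₜ z) = (1 : M) ⊗ₜ[D] z := fun z => by
    rw [hΦ, map_one, one_mul]
    rfl
  have hkz : ∀ z ∈ Z, ∃ q : K, k q = z := fun z hz => by
    obtain ⟨a, ha⟩ := hjs (Finset.mem_coe.2 (Finset.mem_union_left _ (Finset.mem_union_left _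
      (Finset.mem_image_of_mem num hz))))
    obtain ⟨b, hb⟩ := hjs (Finset.mem_coe.2 (Finset.mem_union_left _ (Finset.mem_union_right _
      (Finset.mem_image_of_mem den hz))))
    refine ⟨algebraMap D K a / algebraMap D K b, ?_⟩
    rw [map_div₀, k.commutes, k.commutes, div_eq_iff]
    · show algebraMap Rt F (j a) = z * algebraMap Rt F (j b)
      rw [ha, hb, hfr]
    · show algebraMap Rt F (j b) ≠ 0
      rw [hb]
      exact fun h => hden z (hinj (h.trans (map_zero _).symm))
  -- the idempotent over `K`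
  have hP : ∀ x ∈ Subring.closure (Set.range f' ∪ g '' (Z : Set F)),
      ∃ y, ιK y = Φ x ∧ ΨK y = ρ x := by
    intro x hx
    induction hx using Subring.closure_induction with
    | mem x hx =>
      rcases hx with ⟨c | ε, rfl⟩ | ⟨z, hz, rfl⟩
      · refine ⟨algebraMap (D ⊗[A] C) M (1 ⊗ₜ c) ⊗ₜ 1, ?_, ?_⟩
        · show algebraMap (D ⊗[A] C) M (1 ⊗ₜ c) ⊗ₜ[D] k 1 = Φ (algebraMap B₁ E (cB c) ⊗ₜ 1)
          rw [hΦE, hnB, hηC, hχ, map_one, map_one, ← Algebra.TensorProduct.one_def, one_mul]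
        · refine (Algebra.TensorProduct.lift_tmul _ _ _ _ _).trans ?_
          show ιT (θ (algebraMap (D ⊗[A] C) M ((1 : D) ⊗ₜ[A] c))) * φF (k 1) = ρ (algebraMap B₁ E (cB c) ⊗ₜ 1)
          rw [map_one k, map_one φF, mul_one, hρE, hθ₁]
          show ιT (γ (j 1 ⊗ₜ c)) = _
          rw [hγ, map_one j, map_one rT, one_mul]
      · refine ⟨u ε ⊗ₜ 1, ?_, ?_⟩
        · show u ε ⊗ₜ[D] k 1 = Φ (e.symm (1 ⊗ₜ ε) ⊗ₜ 1)
          rw [hΦE, hnE, map_one]
        · refine (Algebra.TensorProduct.lift_tmul _ _ _ _ _).trans ?_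
          show ιT (θ (u ε)) * φF (k 1) = ρ (e.symm (1 ⊗ₜ ε) ⊗ₜ 1)
          rw [map_one k, map_one φF, mul_one, hρE, hθ₂]
          rfl
      · obtain ⟨q, rfl⟩ := hkz z hz
        refine ⟨1 ⊗ₜ q, ?_, ?_⟩
        · exact (hΦF (k q)).symm
        · refine (Algebra.TensorProduct.lift_tmul _ _ _ _ _).trans ?_
          rw [map_one, one_mul, hρF]
          rfl
    | zero => exact ⟨0, by simp⟩
    | one => exact ⟨1, by simp⟩
    | add x y _ _ hx hy =>
      obtain ⟨a, ha, ha'⟩ := hx
      obtain ⟨b, hb, hb'⟩ := hy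
      exact ⟨a + b, by simp [ha, hb], by simp [ha', hb']⟩
    | neg x _ hx =>
      obtain ⟨a, ha, ha'⟩ := hx
      exact ⟨-a, by simp [ha], by simp [ha']⟩
    | mul x y _ _ hx hy =>
      obtain ⟨a, ha, ha'⟩ := hx
      obtain ⟨b, hb, hb'⟩ := hy
      exact ⟨a * b, by simp [ha, hb], by simp [ha', hb']⟩
  obtain ⟨y, hy, hy'⟩ := hP eE hZ
  have hιK : Function.Injective ιK :=
    Module.Flat.lTensor_preserves_injective_linearMap (M := M) k.toLinearMap k.toRingHom.injective
  have hyi : IsIdempotentElem y := hιK (by rw [map_mul, hy, ← map_mul, he.eq])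
  obtain ⟨t, ht, ht'⟩ := exists_idem_integralClosure hred y hyi
  exact ⟨ΨS t, ht.map ΨS, by rw [hΨ, ht', hy']⟩

end Groth.Agent.ZeroAcyc
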