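import Groth.Agent.CAlgLib.Mori
import Mathlib.RingTheory.Flat.Basic
import Mathlib.RingTheory.DiscreteValuationRing.Basic
import Mathlib.LinearAlgebra.TensorProduct.Pi

/-!
Idempotents of flat algebras with geometrically reduced fibres over the normalisation.
-/

set_option autoImplicit false
set_option linter.style.haveILetI false
set_option backward.isDefEq.respectTransparency.types false

universe u

open scoped TensorProduct
open Groth.Agent.CAlgLib

namespace Groth.Agent.ZeroAcyc

/-- Over a discrete valuation ring, `s ^ 2 = b s` forces `b ∣ s` when the special fibre is reduced. -/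
theorem exists_smul_of_sq {V : Type u} [CommRing V] [IsDomain V] [IsDiscreteValuationRing V] {D M : Type u}
    [CommRing D] [Algebra D V] [CommRing M] [Algebra D M] [Module.Flat D M]
    (hred : IsReduced (M ⊗[D] IsLocalRing.ResidueField V)) (b : V) (hb : b ≠ 0) (s : V ⊗[D] M)
    (h : s * s = b • s) : ∃ t, s = b • t := by
  obtain ⟨p, hp⟩ := IsDiscreteValuationRing.exists_irreducible V
  let κ : Type u := IsLocalRing.ResidueField V
  let π : V →ₐ[D] κ := IsScalarTower.toAlgHom D V κ
  haveI : IsReduced (κ ⊗[D] M) := by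
    haveI := hred
    exact isReduced_of_injective (Algebra.TensorProduct.comm D κ M).toAlgHom
      (Algebra.TensorProduct.comm D κ M).injective
  let PV : V ⊗[D] M →ₐ[D] κ ⊗[D] M := Algebra.TensorProduct.map π (AlgHom.id D M)
  have hker : ∀ z, PV z = 0 → ∃ t, z = p • t := by
    intro z hz
    have hex : Function.Exact (LinearMap.mulLeft D p) π.toLinearMap := fun x => by
      show IsLocalRing.residue V x = 0 ↔ _
      rw [IsLocalRing.residue_eq_zero_iff, hp.maximalIdeal_eq, Ideal.mem_span_singleton]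
      exact ⟨fun ⟨c, hc⟩ => ⟨c, hc.symm⟩, fun ⟨c, hc⟩ => ⟨c, hc.symm⟩⟩
    have hs : Function.Surjective π.toLinearMap := IsLocalRing.residue_surjective
    obtain ⟨t, ht⟩ := (rTensor_exact M hex hs z).1 (show PV.toLinearMap z = 0 from hz)
    refine ⟨t, ht.symm.trans ?_⟩
    clear ht
    induction t using TensorProduct.induction_on with
    | zero => simp
    | add x y hx hy => rw [map_add, hx, hy, smul_add]
    | tmul v m => rw [LinearMap.rTensor_tmul, TensorProduct.smul_tmul']; rfl
  have hreg : ∀ (c : V), c ≠ 0 → Function.Injective fun t : V ⊗[D] M => c • t := by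
    intro c hc x y hxy
    have h1 : Function.Injective (LinearMap.mulLeft D c) := mul_right_injective₀ hc
    refine Module.Flat.rTensor_preserves_injective_linearMap (M := M) _ h1 ?_
    have h2 : ∀ t : V ⊗[D] M, LinearMap.rTensor M (LinearMap.mulLeft D c) t = c • t := fun t => by
      induction t using TensorProduct.induction_on with
      | zero => simp
      | add x y hx hy => rw [map_add, hx, hy, smul_add]
      | tmul v m => rw [LinearMap.rTensor_tmul, TensorProduct.smul_tmul']; rfl
    rw [h2, h2]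
    exact hxy
  obtain ⟨n, w, rfl⟩ := IsDiscreteValuationRing.eq_unit_mul_pow_irreducible hb hp
  induction n generalizing s with
  | zero => exact ⟨(↑w⁻¹ : V) • s, by rw [smul_smul, pow_zero, mul_one, Units.mul_inv, one_smul]⟩
  | succ n ih =>
    have h0 : PV s * PV s = 0 := by
      rw [← map_mul, h, Algebra.smul_def, map_mul]
      have : PV (algebraMap V (V ⊗[D] M) ((w : V) * p ^ (n + 1))) = 0 := by
        show PV (((w : V) * p ^ (n + 1)) ⊗ₜ[D] (1 : M)) = 0
        have hp0 : π p = 0 := (IsLocalRing.residue_eq_zero_iff p).2 (by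
          rw [hp.maximalIdeal_eq]; exact Ideal.mem_span_singleton_self p)
        simp [PV, hp0]
      rw [this, zero_mul]
    obtain ⟨t, rfl⟩ := hker s (IsReduced.eq_zero _ ⟨2, by rw [pow_two]; exact h0⟩)
    have ht : t * t = ((w : V) * p ^ n) • t := by
      refine hreg (p ^ 2) (pow_ne_zero 2 hp.ne_zero) ?_
      show p ^ 2 • (t * t) = p ^ 2 • (((w : V) * p ^ n) • t)
      rw [smul_mul_smul_comm, ← pow_two p, smul_smul] at h
      rw [h, smul_smul]
      ring_nf
    obtain ⟨t', rfl⟩ := ih t (mul_ne_zero w.ne_zero (pow_ne_zero _ hp.ne_zero)) ht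
    exact ⟨t', by rw [smul_smul]; ring_nf⟩

/-- Clearing denominators. -/
theorem exists_smul_mem_range {D M : Type u} [CommRing D] [IsDomain D] [CommRing M] [Algebra D M]
    (e : M ⊗[D] FractionRing D) :
    ∃ (b : D) (_ : b ≠ 0) (m : M), m ⊗ₜ 1 = b • e := by
  induction e using TensorProduct.induction_on with
  | zero => exact ⟨1, one_ne_zero, 0, by simp⟩
  | tmul m z =>
    obtain ⟨⟨a, b⟩, hab⟩ := IsLocalization.surj (nonZeroDivisors D) z
    refine ⟨b, nonZeroDivisors.coe_ne_zero b, a • m, ?_⟩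
    rw [TensorProduct.smul_tmul, ← TensorProduct.tmul_smul, Algebra.smul_def, mul_one, Algebra.smul_def,
      mul_comm]
    exact congrArg (m ⊗ₜ[D] ·) hab.symm
  | add x y hx hy =>
    obtain ⟨b, hb, m, hm⟩ := hx
    obtain ⟨c, hc, n, hn⟩ := hy
    refine ⟨b * c, mul_ne_zero hb hc, c • m + b • n, ?_⟩
    rw [TensorProduct.add_tmul, ← TensorProduct.smul_tmul', ← TensorProduct.smul_tmul', hm, hn, smul_smul,
      smul_smul, smul_add, mul_comm c b]

variable {D M K : Type u} [CommRing D] [CommRing M] [Algebra D M] [Module.Flat D M] [Field K] [Algebra D K]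

/-- A multiple of an idempotent over a discrete valuation ring of `K` is divisible. -/
theorem exists_div_valuation (W : Subalgebra D K) [IsDiscreteValuationRing W]
    (hred : ∀ (k : Type u) [Field k] [Algebra D k], IsReduced (M ⊗[D] k))
    (b : D) (hb : algebraMap D K b ≠ 0) (m : M) (e : M ⊗[D] K) (he : IsIdempotentElem e)
    (hm : m ⊗ₜ 1 = b • e) : ∃ t : M ⊗[D] W, m ⊗ₜ[D] (1 : W) = b • t := by
  let c := Algebra.TensorProduct.comm D M W
  let κj : M ⊗[D] W →ₐ[D] M ⊗[D] K := Algebra.TensorProduct.map (AlgHom.id D M) W.val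
  have hκ : Function.Injective κj :=
    Module.Flat.lTensor_preserves_injective_linearMap (M := M) W.val.toLinearMap Subtype.val_injective
  have hsq : (m ⊗ₜ[D] (1 : W)) * (m ⊗ₜ[D] 1) = b • (m ⊗ₜ[D] (1 : W)) := by
    apply hκ
    rw [map_mul, map_smul]
    show (m ⊗ₜ[D] (1 : K)) * (m ⊗ₜ[D] (1 : K)) = b • (m ⊗ₜ[D] (1 : K))
    rw [hm, smul_mul_smul_comm, he.eq, smul_smul]
  obtain ⟨t, ht⟩ := exists_smul_of_sq (M := M) (hred _) (algebraMap D W b)
    (fun h => hb (congrArg Subtype.val h)) (c (m ⊗ₜ 1))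
    (by rw [← map_mul, hsq, map_smul, algebraMap_smul])
  refine ⟨c.symm t, c.injective ?_⟩
  rw [ht, map_smul, AlgEquiv.apply_symm_apply, algebraMap_smul]

/-- Divisibility in a subalgebra cut out by finitely many others. -/
theorem exists_div_of_cut (S : Subalgebra D K) {J : Type u} [Finite J] (W : J → Subalgebra D K)
    (hle : ∀ j, S ≤ W j) (b : D) (hb : algebraMap D K b ≠ 0)
    (hcut : ∀ x : S, (∀ j, (algebraMap D K b)⁻¹ * (x : K) ∈ W j) → (algebraMap D K b)⁻¹ * (x : K) ∈ S)
    (m : M) (hdiv : ∀ j, ∃ t : M ⊗[D] W j, m ⊗ₜ[D] (1 : W j) = b • t) :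
    ∃ t : M ⊗[D] S, m ⊗ₜ[D] (1 : S) = b • t := by
  classical
  haveI := Fintype.ofFinite J
  let f : ∀ j, S →ₐ[D] W j := fun j => Subalgebra.inclusion (hle j)
  let N : ∀ j, Submodule D (W j) := fun j => LinearMap.range (b • (LinearMap.id : W j →ₗ[D] W j))
  let Qj : J → Type u := fun j => (W j) ⧸ N j
  let g : S →ₗ[D] ∀ j, Qj j := LinearMap.pi fun j => (N j).mkQ.comp (f j).toLinearMap
  have hex : Function.Exact (b • (LinearMap.id : S →ₗ[D] S)) g := fun x => by
    constructor
    · intro hx
      have hmem : (algebraMap D K b)⁻¹ * (x : K) ∈ S := hcut x fun j => by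
        obtain ⟨w, hw⟩ := LinearMap.mem_range.1 ((Submodule.Quotient.mk_eq_zero (N j)).1 (congrFun hx j))
        have : algebraMap D K b * (w : K) = (x : K) :=
          (Algebra.smul_def b (w : K)).symm.trans (congrArg Subtype.val hw)
        rw [← this, inv_mul_cancel_left₀ hb]
        exact w.2
      refine ⟨⟨_, hmem⟩, Subtype.ext ?_⟩
      show b • ((algebraMap D K b)⁻¹ * (x : K)) = x
      rw [Algebra.smul_def, mul_inv_cancel_left₀ hb]
    · rintro ⟨y, rfl⟩
      funext j
      exact (Submodule.Quotient.mk_eq_zero (N j)).2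
        (LinearMap.mem_range.2 ⟨f j y, (map_smul (f j) b y).symm⟩)
  have hzero : LinearMap.lTensor M g (m ⊗ₜ 1) = 0 := by
    apply (TensorProduct.piRight D D M Qj).injective
    rw [map_zero]
    funext j
    obtain ⟨t, ht⟩ := hdiv j
    show m ⊗ₜ[D] (N j).mkQ (f j 1) = 0
    rw [map_one (f j)]
    have := congrArg (LinearMap.lTensor M (N j).mkQ) ht
    rw [LinearMap.lTensor_tmul, map_smul] at this
    refine this.trans ?_
    clear this ht
    induction t using TensorProduct.induction_on with
    | zero => simp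
    | add x y hx hy => rw [map_add, smul_add, hx, hy, add_zero]
    | tmul n w =>
      rw [LinearMap.lTensor_tmul, ← TensorProduct.tmul_smul, ← map_smul,
        show (N j).mkQ (b • w) = 0 from (Submodule.Quotient.mk_eq_zero (N j)).2 (LinearMap.mem_range.2 ⟨w, rfl⟩),
        TensorProduct.tmul_zero]
  obtain ⟨t, ht⟩ := (Module.Flat.lTensor_exact M hex (m ⊗ₜ 1)).1 hzero
  refine ⟨t, ht.symm.trans ?_⟩
  rw [LinearMap.lTensor_smul, LinearMap.lTensor_id]
  rfl

set_option maxHeartbeats 1000000 in
/-- Idempotents over the fraction field come from the normalisation. -/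
theorem exists_idem_integralClosure {D M : Type u} [CommRing D] [IsDomain D] [IsNoetherianRing D] [IsLocalRing D] [CommRing M]
    [Algebra D M] [Module.Flat D M]
    (hred : ∀ (k : Type u) [Field k] [Algebra D k], IsReduced (M ⊗[D] k))
    (e : M ⊗[D] FractionRing D) (he : IsIdempotentElem e) :
    ∃ t : M ⊗[D] integralClosure D (FractionRing D), IsIdempotentElem t ∧
      Algebra.TensorProduct.map (AlgHom.id D M) (integralClosure D (FractionRing D)).val t = e := by
  classical
  let K : Type u := FractionRing D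
  let S := integralClosure D K
  let ι : M ⊗[D] S →ₐ[D] M ⊗[D] K := Algebra.TensorProduct.map (AlgHom.id D M) S.val
  have hι : Function.Injective ι :=
    Module.Flat.lTensor_preserves_injective_linearMap (M := M) S.val.toLinearMap Subtype.val_injective
  suffices ∃ t, ι t = e by
    obtain ⟨t, ht⟩ := this
    exact ⟨t, hι (by rw [map_mul, ht]; exact he), ht⟩
  obtain ⟨b, hb, m, hm⟩ := exists_smul_mem_range e
  obtain ⟨C, -, -, hval, hcrit, hfin⟩ := Mori.exists_mori (A := D)
  have hbK : algebraMap D K b ≠ 0 := (map_ne_zero_iff _ (IsFractionRing.injective D K)).2 hb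
  let J : Set (Ideal C) := {p | p.IsPrime ∧ p.height = 1 ∧
    ¬ ∃ s : C, s ∉ p ∧ IsIntegral C ((s : K) * (algebraMap D K b)⁻¹)}
  haveI : Finite J := (hfin _).to_subtype
  haveI := Fintype.ofFinite J
  have hV := fun j : J => by
    haveI := j.2.1
    exact hval j.1 j.2.2.1
  choose V hVd hVm using hV
  have hDV : ∀ (j : J) (x : S), (x : K) ∈ V j := fun j x => by
    haveI := j.2.1
    exact (hVm j _).2 ((hcrit _).1 x.2 j.1 j.2.2.1)
  let W : J → Subalgebra D K := fun j =>
    { toSubsemiring := (V j).toSubring.toSubsemiring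
      algebraMap_mem' := fun d => hDV j (algebraMap D S d) }
  haveI : ∀ j, IsDiscreteValuationRing (W j) := hVd
  have hcut : ∀ x : S, (∀ j : J, (algebraMap D K b)⁻¹ * (x : K) ∈ W j) →
      (algebraMap D K b)⁻¹ * (x : K) ∈ S := fun x hx => by
    refine (hcrit _).2 fun p hp hh => ?_
    by_cases hpJ : p ∈ J
    · exact (hVm ⟨p, hpJ⟩ _).1 (hx ⟨p, hpJ⟩)
    · obtain ⟨s, hs, hint⟩ : ∃ s : C, s ∉ p ∧ IsIntegral C ((s : K) * (algebraMap D K b)⁻¹) :=
        by_contra fun h => hpJ ⟨hp, hh, h⟩
      obtain ⟨s', hs', hint'⟩ := (hcrit _).1 x.2 p hh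
      refine ⟨s * s', fun h => (hp.mem_or_mem h).elim hs hs', ?_⟩
      have : ((s * s' : C) : K) * ((algebraMap D K b)⁻¹ * x) =
          ((s : K) * (algebraMap D K b)⁻¹) * ((s' : K) * x) := by push_cast; ring
      rw [this]
      exact hint.mul hint'
  obtain ⟨t, ht⟩ := exists_div_of_cut (M := M) S W (fun j x hx => hDV j ⟨x, hx⟩) b hbK hcut m
    fun j => exists_div_valuation (W j) hred b hbK m e he hm
  refine ⟨t, ?_⟩
  have h1 : b • ι t = b • e := by
    rw [← map_smul, ← hm, ← ht]
    rfl
  have h2 : ∀ z : M ⊗[D] K, ((1 : M) ⊗ₜ[D] (algebraMap D K b)⁻¹) * (b • z) = z := fun z => by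
    rw [mul_smul_comm, ← smul_mul_assoc, ← TensorProduct.tmul_smul, Algebra.smul_def, mul_inv_cancel₀ hbK,
      ← Algebra.TensorProduct.one_def, one_mul]
  rw [← h2 (ι t), h1, h2]

end Groth.Agent.ZeroAcyc
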