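import Groth.Agent.DescSh.BCConn
import Groth.Agent.DescSh.MultiSect
import Groth.Prelude.Def_EtAcyc

/-!
Universally submersive morphisms with geometrically connected fibres are 0-acyclic.
-/

set_option autoImplicit false
set_option linter.style.haveILetI false
set_option backward.isDefEq.respectTransparency.types false

universe u

open CategoryTheory CategoryTheory.Limits AlgebraicGeometry Opposite
open Groth.Agent.EtaleSite Groth.Agent.DescSh
open Groth.Agent.DescSh.CohPropField (valTop valTop_iff)

namespace Groth.Agent.ZeroAcyc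

variable {M B : Scheme.{u}} (c : M ⟶ B)

theorem secUp_bijective [GeometricallyConnected c] (hc : EtDesc.IsUnivSubmersive c) (F : EtDesc.Sh B)
    (V : B.Etale) : Function.Bijective (secUp c F (V := V)) := by
  haveI : Surjective c := ⟨fun b => by
    obtain ⟨z, hz⟩ := (hc B (𝟙 B)).1 b
    refine ⟨pullback.fst c (𝟙 B) z, ?_⟩
    rw [← Scheme.Hom.comp_apply, pullback.condition, Category.comp_id]
    exact hz⟩
  refine ⟨secUp_injective c F, fun t => ?_⟩
  let W : M.Etale := (EtCoh.bc c).obj V
  let WL : Scheme.{u} := W.left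
  let c' : WL ⟶ V.left := pullback.fst V.hom c
  let π : WL ⟶ B := W.hom ≫ c
  haveI : GeometricallyConnected c' :=
    MorphismProperty.pullback_fst (P := @GeometricallyConnected) _ _ ‹GeometricallyConnected c›
  have hc' : EtDesc.IsUnivSubmersive c' := isUnivSubmersive_pullback_fst V.hom c hc
  have hπ : c' ≫ V.hom = π := pullback.condition
  obtain ⟨s₀, hs₀⟩ := BCConn.exists_secPull_relTop c' V.hom π hπ hc' (valTop c W π rfl t)
  obtain ⟨s, hs⟩ := (bijective_toTop F V).2 s₀
  refine ⟨s, sect_ext_alg ((EtDesc.pullSh c).obj F) _ _ fun L _ _ ξ x => ?_⟩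
  let P : (Scheme.pointSmallEtale (ξ ≫ c)).fiber.obj V := (fiberBcEquiv c ξ V).symm x
  have hx : bcPt c ξ rfl V P = x := (fiberBcEquiv c ξ V).apply_symm_apply x
  refine Eq.trans ?_ (Eq.refl _)
  have ez : x.left ≫ π = ξ ≫ c := (Category.assoc _ _ _).symm.trans (congrArg (· ≫ c) (Over.w x))
  have key : SetStalk.germ ξ _ W x t = pullAt c ξ (ξ ≫ c) rfl F (SetStalk.germ (ξ ≫ c) F V P s) := by
    refine (valTop_iff c W π rfl t x.left ξ x rfl (ξ ≫ c) ez rfl _).2 ?_
    obtain ⟨v, hv⟩ := (pullAt_bijective π x.left _ ez F).2 (topGerm (valTop c W π rfl t) x.left)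
    have hq : x.left ≫ c' = P.left := by
      rw [← hx]
      exact fiberBcEquiv_fst c ξ V P
    have h1 := topGerm_secPull c' _ s₀ x.left P.left hq
    rw [hs₀, BCConn.topGerm_relTop c' V.hom π hπ _ x.left P.left hq (ξ ≫ c) (Over.w P) ez v hv.symm, ← hs,
      topGerm_toTop F V s P.left (ξ ≫ c) P rfl] at h1
    rw [← hv, (pullAt_bijective V.hom P.left _ (Over.w P) F).1 ((pullAt_bijective c' x.left _ hq _).1 h1)]
  rw [key, pullAt_germ, hx]

/-- Universally submersive morphisms with geometrically connected fibres have bijective units. -/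
theorem isIso_unit [GeometricallyConnected c] (hc : EtDesc.IsUnivSubmersive c) (F : EtDesc.Sh B) :
    IsIso ((EtDesc.adjSh c).unit.app F) := by
  haveI : ∀ V : B.Etaleᵒᵖ, IsIso (((EtDesc.adjSh c).unit.app F).hom.app V) := fun V =>
    (isIso_iff_bijective _).2 (secUp_bijective c hc F V.unop)
  haveI : IsIso ((EtDesc.adjSh c).unit.app F).hom := NatIso.isIso_of_isIso_app _
  exact ⟨⟨⟨inv ((EtDesc.adjSh c).unit.app F).hom⟩, Sheaf.hom_ext (IsIso.hom_inv_id _),
    Sheaf.hom_ext (IsIso.inv_hom_id _)⟩⟩

/-- Universally submersive morphisms with geometrically connected fibres are 0-acyclic. -/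
theorem isZeroAcyclic [GeometricallyConnected c] (hc : EtDesc.IsUnivSubmersive c) :
    EtAcyc.IsZeroAcyclic c := fun V F => by
  haveI : GeometricallyConnected (EtAcyc.prj c V) :=
    MorphismProperty.pullback_fst (P := @GeometricallyConnected) _ _ ‹GeometricallyConnected c›
  exact isIso_unit (EtAcyc.prj c V) (isUnivSubmersive_pullback_fst V.hom c hc) F

end Groth.Agent.ZeroAcyc
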